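import Mathlib
import Cfsg.Agent.CpAut.RgdConj
import Cfsg.Agent.Nodes.CardSup_m3
import Cfsg.Agent.FastGrp
import Cfsg.Agent.Prune
set_option linter.all false

section
prune_inst 0x7f00000000000000000000000000000000000000000000000000000000000000000000000000000000000000000000000000000000000000000000000000000000000000000000000000000000000000003fffffffffffffffffffffffffffbeffbdffffffff

-- part: BpExc/TorRgd
section
set_option linter.all false
open scoped Cfsg.Agent.FastGrp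

-- merged: Cfsg.Agent.BpExc.TorCount
section

/-!
# Torality : the counting lemma

* `dvd_card` : a permutation `τ` with `τ ^ l ^ (j + 1) = 1` such that `τ ^ l ^ j` has no fixed point: `l ^ (j + 1)`
  divides the number of points.
-/

set_option autoImplicit false
set_option linter.unusedSectionVars false

namespace Cfsg.Agent.BpExc.TorCount

/-- the homomorphism from `ℤ / m` given by an element with `σ ^ m = 1` -/
def cyc {G : Type*} [Group G] (m : ℕ) [NeZero m] (σ : G) (h : σ ^ m = 1) : Multiplicative (ZMod m) →* G where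
  toFun a := σ ^ (a.toAdd.val)
  map_one' := by
    show σ ^ ((0 : ZMod m).val) = 1
    rw [ZMod.val_zero, pow_zero]
  map_mul' a b := by
    show σ ^ ((a.toAdd + b.toAdd : ZMod m).val) = _
    rw [ZMod.val_add, ← pow_eq_pow_mod _ h, pow_add]

variable {C : Type*} [Finite C]

/-- the powers of a permutation fix its fixed points -/
theorem pow_fix (ρ : Equiv.Perm C) (k : ℕ) {y : C} (hρ : ρ y = y) : (ρ ^ k) y = y := by
  induction k with
  | zero => rfl
  | succ k ih => rw [pow_succ, Equiv.Perm.mul_apply, hρ, ih]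

/-- **Free orbits.** -/
theorem dvd_card {l : ℕ} (hl : l.Prime) {τ : Equiv.Perm C} {j : ℕ} (hτ : τ ^ l ^ (j + 1) = 1)
    (hfree : ∀ y, (τ ^ l ^ j) y ≠ y) : l ^ (j + 1) ∣ Nat.card C := by
  classical
  have : NeZero (l ^ (j + 1)) := ⟨pow_ne_zero _ hl.ne_zero⟩
  let f := cyc (l ^ (j + 1)) τ hτ
  let _ : MulAction (Multiplicative (ZMod (l ^ (j + 1)))) C := MulAction.compHom C f
  have hsm : ∀ (a : Multiplicative (ZMod (l ^ (j + 1)))) (y : C), a • y = (τ ^ (a.toAdd.val)) y := fun _ _ => rfl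
  have hst : ∀ y : C, MulAction.stabilizer (Multiplicative (ZMod (l ^ (j + 1)))) y = ⊥ := by
    intro y
    rw [eq_bot_iff]
    intro a ha
    rw [Subgroup.mem_bot]
    rw [MulAction.mem_stabilizer_iff, hsm] at ha
    by_contra hne
    have hlt : a.toAdd.val < l ^ (j + 1) := ZMod.val_lt _
    have hpos : a.toAdd.val ≠ 0 := by
      intro h0
      apply hne
      have e6 : a.toAdd = (0 : ZMod (l ^ (j + 1))) := (ZMod.val_eq_zero _).1 h0
      exact e6
    obtain ⟨i, hi, hg⟩ := (Nat.dvd_prime_pow hl).1 (Nat.gcd_dvd_right a.toAdd.val (l ^ (j + 1)))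
    have hij : i ≤ j := by
      by_contra hcon
      have h1 : i = j + 1 := by omega
      rw [h1] at hg
      have h2 : l ^ (j + 1) ∣ a.toAdd.val := Dvd.dvd.trans (dvd_of_eq hg.symm) (Nat.gcd_dvd_left _ _)
      exact absurd (Nat.le_of_dvd (Nat.pos_of_ne_zero hpos) h2) (not_le.2 hlt)
    have h1 : (τ ^ l ^ i) y = y := by
      rw [← hg]
      -- the gcd is a combination
      have h3 : τ ^ (a.toAdd.val.gcd (l ^ (j + 1))) = (τ ^ a.toAdd.val) ^
          (a.toAdd.val.gcdA (l ^ (j + 1))) := by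
        rw [← zpow_natCast τ (a.toAdd.val.gcd _), Nat.gcd_eq_gcd_ab, zpow_add, zpow_mul, zpow_mul, zpow_natCast,
          zpow_natCast, hτ, one_zpow, mul_one]
      rw [h3]
      rcases Int.eq_nat_or_neg (a.toAdd.val.gcdA (l ^ (j + 1))) with ⟨k, hk | hk⟩
      · rw [hk, zpow_natCast]
        exact pow_fix _ _ ha
      · rw [hk, zpow_neg, zpow_natCast, Equiv.Perm.inv_eq_iff_eq]
        exact (pow_fix _ _ ha).symm
    apply hfree y
    obtain ⟨d, rfl⟩ := Nat.exists_eq_add_of_le hij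
    rw [pow_add, pow_mul]
    exact pow_fix _ _ h1
  rw [Nat.card_congr (MulAction.selfEquivOrbitsQuotientProd (G := Multiplicative (ZMod (l ^ (j + 1)))) (X := C) hst),
    Nat.card_prod]
  refine Dvd.dvd.mul_left ?_ _
  rw [Nat.card_eq_fintype_card, Fintype.card_multiplicative, ZMod.card]

end Cfsg.Agent.BpExc.TorCount

end

-- merged: Cfsg.Agent.BpExc.TorRgd
section

/-!
# Torality by Burnside's lemma (S1332-EXC (T), helper88)

`R : RGD cs h p T n X`, `Y` finite, `GG = ⊤`.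

* `card_fix_sup` : the fixed points of a frame automorphism on a join of root groups;
* `card_fix_sylow` : the number of Sylow `p`-subgroups (chambers) fixed by a frame automorphism `β`
  (`Diag T X β 1`) is `∑ w, ∏ x ∈ NW w, |C_{X x}(β)|`;
* `exists_fix_of_lang` : an automorphism `x` of order `l` (prime) commuting with `f` fixes a chamber if `x f ^ l ^ j` is
  conjugate to a frame automorphism `β` (Lang) and the numbers `|C_{X a}(β)|` are `1` modulo `l ^ (j + 1) ∤ |W|`;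
* `exists_diag_conj` : an automorphism of prime order `l ≠ p` fixing a chamber is conjugate to a frame automorphism;
* `exists_conj_mem_T` : for an inner automorphism: `x` is conjugate into `T`.
-/

set_option autoImplicit false
set_option linter.unusedSectionVars false

namespace Cfsg.Agent.BpExc.TorRgd

open CoxeterSystem Cfsg.Agent.ChevalleyStructure.CoxeterGeom Cfsg.Agent.Tits.Roots Cfsg.Agent.Tits.Core
  Cfsg.Agent.Tits.RootComb Cfsg.Agent.Tits.Exchange Cfsg.Agent.Nodes.Reps Cfsg.Agent.Nodes.BNOf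
  Cfsg.Agent.Nodes.Comb Cfsg.Agent.Nodes.BNOf.RGD Cfsg.Agent.Nodes.Unique Cfsg.Agent.Nodes.CardSup
  Cfsg.Agent.Nodes.StabComb Cfsg.Agent.Nodes.Bruhat Cfsg.Agent.Nodes.OppDec Cfsg.Agent.Nodes.LeviDec
  Cfsg.Agent.Nodes.NormalForm Cfsg.Agent.KFacts.RgdOpp Cfsg.Agent.KFacts.RgdAut Cfsg.Agent.KFacts.RgdDiag
  Cfsg.Agent.KFacts.RgdRigid Cfsg.Agent.CpAut.RgdFix Cfsg.Agent.CpAut.RgdCoh Cfsg.Agent.CpAut.RgdConj
open scoped commutatorElement Pointwise

variable {I W Y : Type*} [Fintype I] [DecidableEq I] [Group W] [Group Y] {M : CoxeterMatrix I}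
  {cs : CoxeterSystem M W} {A : I → I → ℤ} {h : IsCartan M A} {p : ℕ} {T : Subgroup Y} {n : I → Y}
  {X : (I → ℤ) → Subgroup Y} (R : RGD cs h p T n X)

include R

/-! ### fixed points on a join of root groups -/

theorem card_fix_sup_fut [Finite W] {β : MulAut Y} (D : _root_.Cfsg.Agent.KFacts.RgdDiag.Diag T X β 1) (w : W) {s : Finset (I → ℤ)}
    (hS : (s : Set (I → ℤ)) ⊆ Fut cs h w) (hc : Closed cs h (s : Set (I → ℤ))) :
    Nat.card ↥(Sup X (s : Set (I → ℤ)) ⊓ fixedSubgroup β) = ∏ x ∈ s, Nat.card ↥(XF X β x) := by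
  classical
  induction hn : (Fut cs h w).ncard generalizing w s with
  | zero =>
    have h1 := (Set.ncard_eq_zero (finite_fut w)).1 hn
    rw [h1, Set.subset_empty_iff, Finset.coe_eq_empty] at hS
    subst hS
    have h2 : Sup X ((∅ : Finset (I → ℤ)) : Set (I → ℤ)) ⊓ fixedSubgroup β = ⊥ := by
      rw [eq_bot_iff]
      refine le_trans inf_le_left (Sup_le fun z hz => ?_)
      simp at hz
    rw [h2, Subgroup.card_bot, Finset.prod_empty]
  | succ k ih =>
    have hne : (Fut cs h w).Nonempty := by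
      rw [Set.nonempty_iff_ne_empty]
      intro h1
      rw [h1, Set.ncard_empty] at hn
      omega
    obtain ⟨y, hy⟩ := hne
    obtain ⟨i, hi⟩ := exists_simple hy
    set x := rep cs h w (sr i) with hxdef
    have hcard : (Fut cs h (w * cs.simple i)).ncard = k := by
      rw [fut_mul hi, Set.ncard_sdiff_singleton_of_mem (mem_fut hi), hn]
      rfl
    have hsub : (s : Set (I → ℤ)) \ {x} ⊆ Fut cs h (w * cs.simple i) := by
      rw [fut_mul hi]
      exact Set.sdiff_subset_sdiff_left hS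
    have hcl := closed_diff hi hS hc
    by_cases hx : x ∈ s
    · have e1 : ((s.erase x : Finset (I → ℤ)) : Set (I → ℤ)) = (s : Set (I → ℤ)) \ {x} := Finset.coe_erase x s
      have key := ih (w * cs.simple i) (s := s.erase x) (by rw [e1]; exact hsub) (by rw [e1]; exact hcl) hcard
      rw [e1] at key
      rw [← Finset.mul_prod_erase s _ hx, ← key]
      have hpos : (s : Set (I → ℤ)) ⊆ Pos cs h := hS.trans (fut_subset_pos w)
      have hinf : X x ⊓ Sup X ((s : Set (I → ℤ)) \ {x}) = ⊥ := by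
        rw [eq_bot_iff, ← tail_inf R (w := w) (i := i)]
        exact inf_le_inf_left _ (Sup_mono hsub)
      refine card_mul_of_disjoint (inf_le_inf_right _ (le_Sup (S := (s : Set (I → ℤ))) (Finset.mem_coe.2 hx)))
        (inf_le_inf_right _ (Sup_mono Set.sdiff_subset)) ?_ ?_
      · rintro g ⟨hg, hgf⟩
        obtain ⟨a, ha, b, hb, e⟩ := (mem_peel R hpos hc (Finset.mem_coe.2 hx)).1 hg
        have hroot : ∀ z ∈ (s : Set (I → ℤ)), _root_.Cfsg.Agent.KFacts.RgdAut.Fix β (X z) := fun z hz => fix_X R D (hpos hz).1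
        have ha' : β a ∈ X x := (hroot x (Finset.mem_coe.2 hx) a).2 ha
        have hb' : β b ∈ Sup X ((s : Set (I → ℤ)) \ {x}) :=
          (fix_Sup (fun z hz => hroot z hz.1) b).2 hb
        have hgf' : β g = g := hgf
        rw [e, map_mul] at hgf'
        have e2 : a⁻¹ * β a = b * (β b)⁻¹ := by
          rw [eq_mul_inv_iff_mul_eq, mul_assoc, hgf', inv_mul_cancel_left]
        have e3 : a⁻¹ * β a ∈ X x ⊓ Sup X ((s : Set (I → ℤ)) \ {x}) :=
          Subgroup.mem_inf.2 ⟨mul_mem (inv_mem ha) ha', by rw [e2]; exact mul_mem hb (inv_mem hb')⟩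
        rw [hinf, Subgroup.mem_bot] at e3
        have e4 : β a = a := (inv_mul_eq_one.1 e3).symm
        rw [e4] at hgf'
        exact ⟨a, ⟨ha, e4⟩, b, ⟨hb, mul_left_cancel hgf'⟩, e⟩
      · rw [eq_bot_iff, ← hinf]
        exact inf_le_inf inf_le_left inf_le_left
    · have hs : (s : Set (I → ℤ)) \ {x} = s := Set.sdiff_singleton_eq_self (fun h => hx (Finset.mem_coe.1 h))
      rw [hs] at hsub
      exact ih (w * cs.simple i) hsub hc hcard

/-- the fixed points of a frame automorphism on a join of root groups -/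
theorem card_fix_sup [Finite W] {β : MulAut Y} (D : _root_.Cfsg.Agent.KFacts.RgdDiag.Diag T X β 1) {s : Finset (I → ℤ)}
    (hS : (s : Set (I → ℤ)) ⊆ Pos cs h) (hc : Closed cs h (s : Set (I → ℤ))) :
    Nat.card ↥(Sup X (s : Set (I → ℤ)) ⊓ fixedSubgroup β) = ∏ x ∈ s, Nat.card ↥(XF X β x) := by
  rw [← fut_one] at hS
  exact card_fix_sup_fut R D 1 hS hc

omit R in
theorem closed_NW (w : W) : Closed cs h (NW cs h w) := by
  intro x hx y hy z hz
  refine ⟨hz.1, RGD.nonneg_of_btwn hx.2.1 hy.2.1 hz, ?_⟩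
  have h1 : (0 : I → ℤ) ≤ rep cs h w (-z) := by
    refine RGD.nonneg_of_btwn (cs := cs) (h := h) (x := rep cs h w (-x)) (y := rep cs h w (-y))
      ?_ ?_ ((btwn_neg hz).act w)
    · rw [map_neg]; exact neg_nonneg.2 hx.2.2
    · rw [map_neg]; exact neg_nonneg.2 hy.2.2
  rw [map_neg] at h1
  exact neg_nonneg.1 h1

omit R in
theorem finite_NW [Finite W] (w : W) : (NW cs h w).Finite :=
  (RGD.finite_roots (cs := cs) (h := h)).subset fun _ hx => hx.1

theorem card_fix_NW_modEq [Finite W] {β : MulAut Y} (D : _root_.Cfsg.Agent.KFacts.RgdDiag.Diag T X β 1) {k : ℕ}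
    (hk : ∀ x, IsRoot cs h x → Nat.card ↥(XF X β x) ≡ 1 [MOD k]) (w : W) :
    Nat.card ↥(Sup X (NW cs h w) ⊓ fixedSubgroup β) ≡ 1 [MOD k] := by
  classical
  have h1 := card_fix_sup R D (s := (finite_NW w).toFinset) (by
    rw [Set.Finite.coe_toFinset]
    exact fun x hx => ⟨hx.1, hx.2.1⟩) (by
    rw [Set.Finite.coe_toFinset]
    exact closed_NW w)
  rw [Set.Finite.coe_toFinset] at h1
  rw [h1]
  have h2 : ∀ s : Finset (I → ℤ), (∀ x ∈ s, IsRoot cs h x) → ∏ x ∈ s, Nat.card ↥(XF X β x) ≡ 1 [MOD k] := by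
    intro s
    induction s using Finset.induction_on with
    | empty => intro _; rw [Finset.prod_empty]
    | insert a s ha ih =>
      intro hs
      rw [Finset.prod_insert ha]
      have := (hk a (hs a (Finset.mem_insert_self a s))).mul (ih fun x hx => hs x (Finset.mem_insert_of_mem hx))
      rwa [one_mul] at this
  exact h2 _ fun x hx => ((Set.Finite.mem_toFinset _).1 hx).1

/-! ### chambers -/

section Chambers

variable [Finite Y] [Fact p.Prime]

theorem exists_sylow_eq [Finite W] (hG : GG cs h T X = ⊤) :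
    ∃ P : Sylow p Y, (P : Subgroup Y) = RGD.Sup X (RGD.Pos cs h) := by
  obtain ⟨P, hP⟩ := R.isPGroup_Upos.exists_le_sylow
  exact ⟨P, eq_U_of_isPGroup R P.isPGroup' hP (by rw [hG]; exact le_top)⟩

omit [Finite Y] in
theorem smul_eq_iff_mem_B [Finite W] (hG : GG cs h T X = ⊤) {P : Sylow p Y}
    (hP : (P : Subgroup Y) = RGD.Sup X (RGD.Pos cs h)) {g : Y} : g • P = P ↔ g ∈ RGD.B cs h T X := by
  rw [Sylow.smul_eq_iff_mem_normalizer, ← normalizer_U' R hG, ← hP]
  rfl

omit R [Finite Y] [Fact p.Prime] in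
theorem aut_smul_smul (β : MulAut Y) (g : Y) (S : Sylow p Y) : β • (g • S) = (β g) • (β • S) := by
  rw [Sylow.smul_def, Sylow.smul_def, ← mul_smul, conj_mul_eq, mul_smul]

omit R [Finite Y] [Fact p.Prime] in
theorem aut_smul_eq_iff {β : MulAut Y} {S : Sylow p Y} : β • S = S ↔ _root_.Cfsg.Agent.KFacts.RgdAut.Fix β (S : Subgroup Y) := by
  rw [fix_iff]
  constructor
  · intro h1
    exact congrArg (fun P : Sylow p Y => (P : Subgroup Y)) h1
  · intro h1
    exact Sylow.ext h1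

omit [Finite Y] in
/-- The chamber determines the cell and the element of `Sup X (NW w)`. -/
theorem cell_inj [Finite W] (hG : GG cs h T X = ⊤) {P : Sylow p Y}
    (hP : (P : Subgroup Y) = RGD.Sup X (RGD.Pos cs h)) {w w' : W} {k k' v v' : Y} (hk : Rp cs R.nsys w k)
    (hk' : Rp cs R.nsys w' k') (hv : v ∈ Sup X (NW cs h w)) (hv' : v' ∈ Sup X (NW cs h w'))
    (e : (k * v)⁻¹ • P = (k' * v')⁻¹ • P) : w = w' ∧ v = v' := by
  have h1 : (k * v * (k' * v')⁻¹) • P = P := by
    rw [mul_smul, ← e, smul_inv_smul]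
  rw [smul_eq_iff_mem_B R hG hP] at h1
  have hNU : ∀ w : W, Sup X (NW cs h w) ≤ RGD.Sup X (RGD.Pos cs h) := fun w =>
    RGD.Sup_mono fun x hx => ⟨hx.1, hx.2.1⟩
  have c1 : Cell R.nsys cs h X w (k * v) := ⟨1, one_mem _, k, hk, v, RGD.U_le_B (hNU w hv), by rw [one_mul]⟩
  have c2 : Cell R.nsys cs h X w' (k' * v') := ⟨1, one_mem _, k', hk', v', RGD.U_le_B (hNU w' hv'), by rw [one_mul]⟩
  have c3 := c2.mul_left h1
  rw [inv_mul_cancel_right] at c3
  have hw := Cell.unique R c1 c3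
  subst hw
  refine ⟨rfl, ?_⟩
  obtain ⟨t, ht, a, ha, e2⟩ := R.mem_B.1 (inv_mem h1)
  have e3 : 1 * k * v = a⁻¹ * (t⁻¹ * k') * v' := by
    rw [mul_inv_rev, inv_inv] at e2
    have : k * v = (k' * v' * (k * v)⁻¹)⁻¹ * (k' * v') := by group
    rw [one_mul, this, e2]
    group
  have hk2 : Rp cs R.nsys w (t⁻¹ * k') := by
    have := (rp_of_mem (cs := cs) (hN := R.nsys) (inv_mem ht)).mul hk'
    rwa [one_mul] at this
  exact (normal_form_unique R (one_mem _) (inv_mem ha) hk hk2 hv hv' e3).2.2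

/-- **The number of chambers fixed by a frame automorphism.** -/
theorem card_fix_sylow [Fintype W] (hG : GG cs h T X = ⊤) {β : MulAut Y} (D : _root_.Cfsg.Agent.KFacts.RgdDiag.Diag T X β 1) :
    Nat.card {S : Sylow p Y // β • S = S} = ∑ w : W, Nat.card ↥(Sup X (NW cs h w) ⊓ fixedSubgroup β) := by
  classical
  obtain ⟨P, hP⟩ := exists_sylow_eq R hG
  have hβP : β • P = P := by
    rw [aut_smul_eq_iff, hP]
    exact fix_Sup fun x hx => fix_X R D hx.1
  have hex : ∀ w : W, ∃ k, Rp cs R.nsys w k := fun w => exists_rp cs R.nsys w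
  choose k hk using hex
  have hmv : ∀ (w : W) (v : Y), β • ((k w * v)⁻¹ • P) = (β (k w) * β v)⁻¹ • P := by
    intro w v
    rw [aut_smul_smul, hβP, map_inv, map_mul]
  have hT : ∀ {t g : Y}, t ∈ T → (t * g)⁻¹ • P = g⁻¹ • P := by
    intro t g ht
    rw [mul_inv_rev, mul_smul, (smul_eq_iff_mem_B R hG hP).2 (RGD.T_le_B (inv_mem ht))]
  have hkβ : ∀ w : W, ∃ t ∈ T, β (k w) = t * k w := by
    intro w
    refine ⟨β (k w) * (k w)⁻¹, ?_, by rw [inv_mul_cancel_right]⟩
    have := (fix_rp R D (hk w)).mul (hk w).inv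
    rw [mul_inv_cancel] at this
    exact this.mem_of_one
  have hact : ∀ (w : W) (v : Y), β • ((k w * v)⁻¹ • P) = (k w * β v)⁻¹ • P := by
    intro w v
    obtain ⟨t, ht, e⟩ := hkβ w
    rw [hmv, e, mul_assoc, hT ht]
  let f : (Σ w : W, ↥(Sup X (NW cs h w) ⊓ fixedSubgroup β)) → {S : Sylow p Y // β • S = S} := fun q =>
    ⟨(k q.1 * q.2)⁻¹ • P, by
      have h1 : β (q.2 : Y) = q.2 := q.2.2.2
      rw [hact, h1]⟩
  have hf : Function.Bijective f := by
    constructor
    · rintro ⟨w, ⟨v, hv, hvf⟩⟩ ⟨w', ⟨v', hv', hvf'⟩⟩ e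
      have e1 : (k w * v)⁻¹ • P = (k w' * v')⁻¹ • P := congrArg Subtype.val e
      obtain ⟨rfl, rfl⟩ := cell_inj R hG hP (hk w) (hk w') hv hv' e1
      rfl
    · rintro ⟨S, hS⟩
      obtain ⟨g₀, hg₀⟩ := MulAction.exists_smul_eq Y P S
      obtain ⟨g, rfl⟩ : ∃ g, g₀ = g⁻¹ := ⟨g₀⁻¹, (inv_inv g₀).symm⟩
      have hgG : g ∈ GG cs h T X := by rw [hG]; exact Subgroup.mem_top g
      obtain ⟨w, hw⟩ := (mem_GG R).1 hgG
      obtain ⟨u, hu, k', hk', v, hv, rfl⟩ := exists_normal_form R hw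
      have e1 : S = (k w * v)⁻¹ • P := by
        have h1 : k' * (k w)⁻¹ ∈ T := by
          have := hk'.mul (hk w).inv
          rw [mul_inv_cancel] at this
          exact this.mem_of_one
        have h2 : u * k' * v = u * ((k' * (k w)⁻¹) * (k w * v)) := by group
        rw [← hg₀, h2, mul_inv_rev, mul_smul, (smul_eq_iff_mem_B R hG hP).2 (RGD.U_le_B (inv_mem hu)), hT h1]
      have e2 : β v = v := by
        have h1 := hS
        rw [e1, hact] at h1
        have hv' : β v ∈ Sup X (NW cs h w) := (fix_Sup (fun x hx => fix_X R D hx.1) v).2 hv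
        exact (cell_inj R hG hP (hk w) (hk w) hv' hv h1).2
      exact ⟨⟨w, ⟨v, hv, e2⟩⟩, Subtype.ext e1.symm⟩
  rw [← Nat.card_congr (Equiv.ofBijective f hf), Nat.card_sigma]

theorem card_fix_sylow_modEq [Finite W] (hG : GG cs h T X = ⊤) {β : MulAut Y} (D : _root_.Cfsg.Agent.KFacts.RgdDiag.Diag T X β 1) {k : ℕ}
    (hk : ∀ x, IsRoot cs h x → Nat.card ↥(XF X β x) ≡ 1 [MOD k]) :
    Nat.card {S : Sylow p Y // β • S = S} ≡ Nat.card W [MOD k] := by
  classical
  have := Fintype.ofFinite W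
  rw [card_fix_sylow R hG D]
  have h2 : ∀ s : Finset W, ∑ w ∈ s, Nat.card ↥(Sup X (NW cs h w) ⊓ fixedSubgroup β) ≡ s.card [MOD k] := by
    intro s
    induction s using Finset.induction_on with
    | empty => rw [Finset.sum_empty, Finset.card_empty]
    | insert a s ha ih =>
      rw [Finset.sum_insert ha, Finset.card_insert_of_notMem ha, Nat.add_comm s.card 1]
      exact (card_fix_NW_modEq R D hk a).add ih
  have := h2 Finset.univ
  rwa [Finset.card_univ, ← Nat.card_eq_fintype_card] at this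

omit R [Finite Y] [Fact p.Prime] in
/-- the number of fixed chambers is invariant under conjugation -/
theorem card_fix_conj (e γ : MulAut Y) :
    Nat.card {S : Sylow p Y // (e * γ * e⁻¹) • S = S} = Nat.card {S : Sylow p Y // γ • S = S} := by
  refine Nat.card_congr ⟨fun S => ⟨e⁻¹ • S.1, ?_⟩, fun S => ⟨e • S.1, ?_⟩, fun S => Subtype.ext (smul_inv_smul e S.1),
    fun S => Subtype.ext (inv_smul_smul e S.1)⟩
  · have h1 := S.2
    rw [mul_smul, mul_smul, smul_eq_iff_eq_inv_smul] at h1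
    exact h1
  · rw [mul_smul, mul_smul, inv_smul_smul, S.2]

/-- **Torality from Lang's theorem.** `x` commutes with `f`, `x ^ l = 1`, and `x f ^ l ^ j` is conjugate to a frame
automorphism `β` (Lang) with `|C_{X a}(β)| = 1` modulo `l ^ (j + 1)`, not a divisor of `|W|`: then `x` fixes a chamber. -/
theorem exists_fix_of_lang [Finite W] (hG : GG cs h T X = ⊤) {l : ℕ} (hl : l.Prime) {x f : MulAut Y}
    (hx : x ^ l = 1) (hxf : Commute x f) {j : ℕ} {e β : MulAut Y} (he : x * f ^ l ^ j = e * β * e⁻¹)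
    (D : _root_.Cfsg.Agent.KFacts.RgdDiag.Diag T X β 1) (hk : ∀ a, IsRoot cs h a → Nat.card ↥(XF X β a) ≡ 1 [MOD l ^ (j + 1)])
    (hW : ¬ l ^ (j + 1) ∣ Nat.card W) : ∃ S : Sylow p Y, x • S = S := by
  classical
  by_contra hcon
  push Not at hcon
  have h1 := card_fix_sylow_modEq R hG D hk
  rw [← card_fix_conj e β, ← he] at h1
  set γ := x * f ^ l ^ j with hγ
  have hγf : Commute γ f := by
    rw [hγ]
    exact hxf.mul_left ((Commute.refl f).pow_left _)
  have hxγ : Commute x γ := by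
    rw [hγ]
    exact (Commute.refl x).mul_right (hxf.pow_right _)
  let τ : Equiv.Perm {S : Sylow p Y // γ • S = S} :=
    { toFun := fun S => ⟨f • S.1, by rw [← mul_smul, hγf.eq, mul_smul, S.2]⟩
      invFun := fun S => ⟨f⁻¹ • S.1, by rw [← mul_smul, hγf.inv_right.eq, mul_smul, S.2]⟩
      left_inv := fun S => Subtype.ext (inv_smul_smul f S.1)
      right_inv := fun S => Subtype.ext (smul_inv_smul f S.1) }
  have hτ : ∀ (k : ℕ) (S : {S : Sylow p Y // γ • S = S}), ((τ ^ k) S).1 = (f ^ k) • S.1 := by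
    intro k
    induction k with
    | zero => intro S; rw [pow_zero, pow_zero, one_smul]; rfl
    | succ k ih =>
      intro S
      rw [pow_succ, Equiv.Perm.mul_apply, ih, pow_succ, mul_smul]
      rfl
  -- `f ^ l ^ j` acts as `x⁻¹`
  have hj : ∀ S : {S : Sylow p Y // γ • S = S}, (f ^ l ^ j) • S.1 = x⁻¹ • S.1 := by
    intro S
    rw [eq_inv_smul_iff, ← mul_smul]
    exact S.2
  have hjk : ∀ (k : ℕ) (S : {S : Sylow p Y // γ • S = S}), ((τ ^ l ^ j) ^ k) S = S → (x⁻¹ ^ k) • S.1 = S.1 := by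
    intro k S hS
    have key : ∀ (k : ℕ) (S : {S : Sylow p Y // γ • S = S}), (((τ ^ l ^ j) ^ k) S).1 = (x⁻¹ ^ k) • S.1 := by
      intro k
      induction k with
      | zero => intro S; rw [pow_zero, pow_zero, one_smul]; rfl
      | succ k ih =>
        intro S
        rw [pow_succ, Equiv.Perm.mul_apply, ih, hτ, hj, pow_succ, mul_smul]
    rw [← key, hS]
  have key : ∀ (k : ℕ) (S : {S : Sylow p Y // γ • S = S}), (((τ ^ l ^ j) ^ k) S).1 = (x⁻¹ ^ k) • S.1 := by
    intro k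
    induction k with
    | zero => intro S; rw [pow_zero, pow_zero, one_smul]; rfl
    | succ k ih =>
      intro S
      rw [pow_succ, Equiv.Perm.mul_apply, ih, hτ, hj, pow_succ, mul_smul]
  have h3 := TorCount.dvd_card hl (τ := τ) (j := j) (by
    ext1 S
    apply Subtype.ext
    rw [pow_succ, pow_mul, key, inv_pow, hx, inv_one, one_smul]
    rfl) (by
    intro S hS
    apply hcon S.1
    have h4 := key 1 S
    rw [pow_one, pow_one, hS, eq_inv_smul_iff] at h4
    exact h4)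
  exact hW ((Nat.modEq_zero_iff_dvd.1 (h1.symm.trans (Nat.modEq_zero_iff_dvd.2 h3))))

end Chambers

/-! ### the frame -/

/-- An automorphism of prime order `l ≠ p` fixing `U` also fixes a conjugate of `U⁻` under `U`. -/
theorem exists_conj_frame [Finite W] [Finite Y] [Fact p.Prime] (hG : GG cs h T X = ⊤) {l : ℕ} (hl : l.Prime)
    (hlp : l ≠ p) {x : MulAut Y} {m : ℕ} (hx : x ^ l ^ m = 1) (hU : _root_.Cfsg.Agent.KFacts.RgdAut.Fix x (RGD.Sup X (RGD.Pos cs h))) :
    ∃ v ∈ RGD.Sup X (RGD.Pos cs h), _root_.Cfsg.Agent.KFacts.RgdAut.Fix (MulAut.conj v * x * (MulAut.conj v)⁻¹) (RGD.Sup X (RGD.Pos cs h)) ∧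
      _root_.Cfsg.Agent.KFacts.RgdAut.Fix (MulAut.conj v * x * (MulAut.conj v)⁻¹) (UN cs h X) ∧
      ∃ σ : Equiv.Perm I, _root_.Cfsg.Agent.KFacts.RgdDiag.Diag T X (MulAut.conj v * x * (MulAut.conj v)⁻¹) σ := by
  classical
  obtain ⟨u, hu, hUf, hUN, -, -⟩ := exists_frame_pow R hG hU
  set φ := MulAut.conj u * x with hφ
  have hxφ : x = (MulAut.conj u)⁻¹ * φ := by rw [hφ, inv_mul_cancel_left]
  -- `x` acts on the set `U` of the conjugates `v⁻¹ U⁻ v` by `v ↦ φ v u`
  let U := RGD.Sup X (RGD.Pos cs h)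
  have hxv : ∀ v, x v = u⁻¹ * φ v * u := by
    intro v
    rw [hxφ, MulAut.mul_apply, ← map_inv, MulAut.conj_apply, inv_inv]
  let s : U → U := fun v => ⟨φ v * u, mul_mem ((hUf v).2 v.2) hu⟩
  -- the iterates of `s`
  have hs : ∀ (k : ℕ), ∃ c ∈ U, (MulAut.conj c)⁻¹ * φ ^ k = x ^ k ∧ ∀ v : U, ((s^[k] v : U) : Y) = (φ ^ k) v * c := by
    intro k
    induction k with
    | zero =>
      refine ⟨1, one_mem _, by rw [map_one, inv_one, one_mul, pow_zero, pow_zero], fun v => ?_⟩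
      rw [Function.iterate_zero, id, mul_one]; rfl
    | succ k ih =>
      obtain ⟨c, hc, e, hv⟩ := ih
      refine ⟨φ c * u, mul_mem ((hUf c).2 hc) hu, ?_, fun v => ?_⟩
      · rw [pow_succ' x, ← e, hxφ, pow_succ' φ, map_mul, mul_inv_rev]
        have h1 : φ * (MulAut.conj c)⁻¹ = (MulAut.conj (φ c))⁻¹ * φ := by
          rw [← map_inv, conj_mul_eq, ← map_inv, map_inv φ]
        calc (MulAut.conj u)⁻¹ * (MulAut.conj (φ c))⁻¹ * (φ * φ ^ k)
            = (MulAut.conj u)⁻¹ * ((MulAut.conj (φ c))⁻¹ * φ) * φ ^ k := by group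
          _ = _ := by rw [← h1]; group
      · rw [Function.iterate_succ_apply']
        show φ ((s^[k] v : U) : Y) * u = _
        rw [hv v, map_mul, pow_succ', mul_assoc]
        rfl
  -- `s` has order dividing `l ^ m`
  have hsl : s^[l ^ m] = id := by
    obtain ⟨c, hc, e, hv⟩ := hs (l ^ m)
    rw [hx] at e
    have h1 : φ ^ l ^ m = MulAut.conj c := by
      rw [← inv_mul_eq_one.1 e]
    have h2 : _root_.Cfsg.Agent.KFacts.RgdAut.Fix (MulAut.conj c) (UN cs h X) := by
      rw [← h1]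
      generalize l ^ m = m'
      induction m' with
      | zero => intro y; rw [pow_zero]; rfl
      | succ m' ih => rw [pow_succ]; exact ih.mul hUN
    have h3 : c = 1 := eq_one_of_fix_conj R hG hc h2
    funext v
    apply Subtype.ext
    rw [hv v, h1, h3, map_one, mul_one]
    rfl
  -- a fixed point of `s`
  have hfix : ∃ v : U, s v = v := by
    have hcop : ¬ l ∣ Nat.card U := by
      obtain ⟨k, hk⟩ := IsPGroup.iff_card.1 R.isPGroup_Upos
      intro hd
      rw [show Nat.card U = p ^ k from hk] at hd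
      exact hlp ((Nat.prime_dvd_prime_iff_eq hl Fact.out).1 (hl.dvd_of_dvd_pow hd))
    have hbij : Function.Bijective s := by
      constructor
      · intro a b hab
        have h1 : φ (a : Y) * u = φ (b : Y) * u := congrArg Subtype.val hab
        exact Subtype.ext (φ.injective (mul_right_cancel h1))
      · intro b
        refine ⟨⟨φ⁻¹ (b * u⁻¹), (hUf.inv _).2 (mul_mem b.2 (inv_mem hu))⟩, Subtype.ext ?_⟩
        show φ (φ⁻¹ ((b : Y) * u⁻¹)) * u = b
        rw [MulAut.apply_inv_self, inv_mul_cancel_right]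
    let e : Equiv.Perm U := Equiv.ofBijective s hbij
    have he : e ^ l ^ m = 1 := by
      ext v
      have h1 : ((e ^ l ^ m) v) = (s^[l ^ m]) v := by
        rw [← Equiv.Perm.iterate_eq_pow]; rfl
      rw [h1, hsl]; rfl
    have : Fact l.Prime := ⟨hl⟩
    have : Fintype U := Fintype.ofFinite U
    have h2 := Equiv.Perm.exists_fixed_point_of_prime (p := l) (n := m) (α := U) (by
      rw [← Nat.card_eq_fintype_card]; exact hcop) (σ := e) he
    exact h2
  obtain ⟨⟨v, hv⟩, hsv⟩ := hfix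
  have hv2 : φ v * u = v := congrArg Subtype.val hsv
  refine ⟨v, hv, ?_⟩
  have e1 : MulAut.conj v * x * (MulAut.conj v)⁻¹ = φ := by
    have h1 : x * (MulAut.conj v)⁻¹ = (MulAut.conj (x v))⁻¹ * x := by
      rw [← map_inv, conj_mul_eq, ← map_inv, map_inv x]
    rw [mul_assoc, h1, hxv]
    have h2 : v = φ v * u := hv2.symm
    have h3 : v * (u⁻¹ * φ v * u)⁻¹ * u⁻¹ = 1 := by
      nth_rewrite 1 [h2]
      group
    rw [← mul_assoc, ← map_inv, ← map_mul, hxφ, ← map_inv, ← mul_assoc, ← map_mul, h3, map_one, one_mul]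
  rw [e1]
  exact ⟨hUf, hUN, exists_diag R hG hUf hUN⟩

/-- **Automorphisms of prime order `l ≠ p` fixing a chamber are conjugate to frame automorphisms.** -/
theorem exists_diag_conj [Finite W] [Finite Y] [Fact p.Prime] (hG : GG cs h T X = ⊤) {l : ℕ} (hl : l.Prime)
    (hlp : l ≠ p) {x : MulAut Y} {m : ℕ} (hx : x ^ l ^ m = 1) (hS : ∃ S : Sylow p Y, x • S = S) :
    ∃ g : Y, _root_.Cfsg.Agent.KFacts.RgdAut.Fix (MulAut.conj g * x * (MulAut.conj g)⁻¹) (RGD.Sup X (RGD.Pos cs h)) ∧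
      _root_.Cfsg.Agent.KFacts.RgdAut.Fix (MulAut.conj g * x * (MulAut.conj g)⁻¹) (UN cs h X) ∧
      ∃ σ : Equiv.Perm I, _root_.Cfsg.Agent.KFacts.RgdDiag.Diag T X (MulAut.conj g * x * (MulAut.conj g)⁻¹) σ := by
  obtain ⟨S, hS⟩ := hS
  obtain ⟨P, hP⟩ := exists_sylow_eq R hG
  obtain ⟨g, hg⟩ := MulAction.exists_smul_eq Y P S
  have h1 : _root_.Cfsg.Agent.KFacts.RgdAut.Fix ((MulAut.conj g)⁻¹ * x * MulAut.conj g) (RGD.Sup X (RGD.Pos cs h)) := by
    rw [← hP, ← aut_smul_eq_iff, mul_smul, mul_smul]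
    have h2 : MulAut.conj g • P = S := hg
    rw [h2, hS, ← h2, inv_smul_smul]
  have h2 : ((MulAut.conj g)⁻¹ * x * MulAut.conj g) ^ l ^ m = 1 := by
    have := pow_conj_eq_one (γ := x) (δ := (MulAut.conj g)⁻¹) (p := l ^ m) hx
    rwa [inv_inv] at this
  obtain ⟨v, hv, D⟩ := exists_conj_frame R hG hl hlp h2 h1
  refine ⟨v * g⁻¹, ?_⟩
  have e : MulAut.conj (v * g⁻¹) * x * (MulAut.conj (v * g⁻¹))⁻¹ =
      MulAut.conj v * ((MulAut.conj g)⁻¹ * x * MulAut.conj g) * (MulAut.conj v)⁻¹ := by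
    rw [map_mul, map_inv]; group
  rw [e]
  exact D

/-- An element of `Y` whose conjugation fixes `U` and `U⁻` lies in `T`. -/
theorem mem_T_of_fix [Finite W] (hG : GG cs h T X = ⊤) {t : Y} (hU : _root_.Cfsg.Agent.KFacts.RgdAut.Fix (MulAut.conj t) (RGD.Sup X (RGD.Pos cs h)))
    (hUN : _root_.Cfsg.Agent.KFacts.RgdAut.Fix (MulAut.conj t) (UN cs h X)) : t ∈ T := by
  rw [← B_inf_BN R, ← normalizer_U' R hG, ← normalizer_UN R hG]
  constructor
  · exact Subgroup.mem_normalizer_iff.2 fun y => (hU y).symm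
  · exact Subgroup.mem_normalizer_iff.2 fun y => (hUN y).symm

/-- **Torality from Lang's theorem** for an element. -/
theorem exists_conj_mem_T [Finite W] [Finite Y] [Fact p.Prime] (hG : GG cs h T X = ⊤) {l : ℕ} (hl : l.Prime)
    (hlp : l ≠ p) {x z : Y} {f : MulAut Y} {j : ℕ} (hx : x ^ l = 1) (hfx : f x = x)
    (hz : z⁻¹ * (f ^ l ^ j) z = x) (D : _root_.Cfsg.Agent.KFacts.RgdDiag.Diag T X (f ^ l ^ j) 1)
    (hk : ∀ a, IsRoot cs h a → Nat.card ↥(XF X (f ^ l ^ j) a) ≡ 1 [MOD l ^ (j + 1)])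
    (hW : ¬ l ^ (j + 1) ∣ Nat.card W) : ∃ g : Y, g * x * g⁻¹ ∈ T := by
  have hc : Commute (MulAut.conj x) f := by
    show MulAut.conj x * f = f * MulAut.conj x
    rw [conj_mul_eq, hfx]
  have he : MulAut.conj x * f ^ l ^ j = (MulAut.conj z)⁻¹ * f ^ l ^ j * (MulAut.conj z)⁻¹⁻¹ := by
    rw [inv_inv, mul_assoc, conj_mul_eq, ← mul_assoc, ← map_inv, ← map_mul, hz]
  have h1 := exists_fix_of_lang R hG hl (x := MulAut.conj x) (f := f) (by rw [← map_pow, hx, map_one]) hc he D hk hW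
  obtain ⟨g, h2, h3, -⟩ := exists_diag_conj R hG hl hlp (m := 1) (x := MulAut.conj x) (by
    rw [pow_one, ← map_pow, hx, map_one]) h1
  have e : MulAut.conj g * MulAut.conj x * (MulAut.conj g)⁻¹ = MulAut.conj (g * x * g⁻¹) := by
    rw [map_mul, map_mul, map_inv]
  rw [e] at h2 h3
  exact ⟨g, mem_T_of_fix R hG h2 h3⟩

end Cfsg.Agent.BpExc.TorRgd

end
end

-- part: H795/TorCnt
section
set_option linter.all false
open scoped Cfsg.Agent.FastGrp

/-!
# Chambers fixed by a set of frame automorphisms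

`R : RGD cs h r T n X`, `Y` finite, `GG = ⊤`, `B` a set of frame automorphisms (`Diag T X β 1`).

* `card_sylowZ_modEq` : the number of Sylow `r`-subgroups (chambers) fixed by all elements of `B` is `|W|` modulo `m`, if
  all `|C_{X a}(B)|` are `1` modulo `m`;
* `exists_fix_of_langZ` : `x` commutes with `B`, `x ^ l ^ n = 1`, `x = z⁻¹ f ^ l ^ j (z)`, `z` commutes with `B`,
  `l ^ (j + 1) ∤ |W|`: a chamber is fixed by `B` and `x`;
* `exists_conj_le_T` : an `l`-subgroup (`l ≠ r`) fixing a chamber is conjugate into `T`.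
-/

set_option autoImplicit false
set_option linter.unusedSectionVars false

namespace Cfsg.Agent.H795.TorCnt

open CoxeterSystem Cfsg.Agent.ChevalleyStructure.CoxeterGeom Cfsg.Agent.Tits.Roots Cfsg.Agent.Tits.Core
  Cfsg.Agent.Tits.RootComb Cfsg.Agent.Tits.Exchange Cfsg.Agent.Nodes.Reps Cfsg.Agent.Nodes.BNOf
  Cfsg.Agent.Nodes.Comb Cfsg.Agent.Nodes.BNOf.RGD Cfsg.Agent.Nodes.Unique Cfsg.Agent.Nodes.CardSup
  Cfsg.Agent.Nodes.StabComb Cfsg.Agent.Nodes.Bruhat Cfsg.Agent.Nodes.OppDec Cfsg.Agent.Nodes.LeviDec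
  Cfsg.Agent.Nodes.NormalForm Cfsg.Agent.KFacts.RgdOpp Cfsg.Agent.KFacts.RgdAut Cfsg.Agent.KFacts.RgdDiag
  Cfsg.Agent.KFacts.RgdRigid Cfsg.Agent.CpAut.RgdFix Cfsg.Agent.CpAut.RgdCoh Cfsg.Agent.CpAut.RgdConj
  Cfsg.Agent.BpExc.TorRgd
open scoped commutatorElement Pointwise

/-- the elements fixed by all automorphisms of a set -/
def FB {Y : Type*} [Group Y] (B : Set (MulAut Y)) : Subgroup Y where
  carrier := {y | ∀ β ∈ B, β y = y}
  one_mem' := fun β _ => map_one β
  mul_mem' := fun ha hb β hβ => by rw [map_mul, ha β hβ, hb β hβ]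
  inv_mem' := fun ha β hβ => by rw [map_inv, ha β hβ]

theorem mem_FB {Y : Type*} [Group Y] {B : Set (MulAut Y)} {y : Y} : y ∈ FB B ↔ ∀ β ∈ B, β y = y := Iff.rfl

variable {I W Y : Type*} [Fintype I] [DecidableEq I] [Group W] [Group Y] {M : CoxeterMatrix I}
  {cs : CoxeterSystem M W} {A : I → I → ℤ} {h : IsCartan M A} {p : ℕ} {T : Subgroup Y} {n : I → Y}
  {X : (I → ℤ) → Subgroup Y} (R : RGD cs h p T n X)

include R

theorem card_fix_sup_fut [Finite W] {B : Set (MulAut Y)} (D : ∀ β ∈ B, Diag T X β 1) (w : W)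
    {s : Finset (I → ℤ)} (hS : (s : Set (I → ℤ)) ⊆ Fut cs h w) (hc : Closed cs h (s : Set (I → ℤ))) :
    Nat.card ↥(Sup X (s : Set (I → ℤ)) ⊓ FB B) = ∏ x ∈ s, Nat.card ↥(X x ⊓ FB B) := by
  classical
  induction hn : (Fut cs h w).ncard generalizing w s with
  | zero =>
    have h1 := (Set.ncard_eq_zero (finite_fut w)).1 hn
    rw [h1, Set.subset_empty_iff, Finset.coe_eq_empty] at hS
    subst hS
    have h2 : Sup X ((∅ : Finset (I → ℤ)) : Set (I → ℤ)) ⊓ FB B = ⊥ := by
      rw [eq_bot_iff]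
      refine le_trans inf_le_left (Sup_le fun z hz => ?_)
      simp at hz
    rw [h2, Subgroup.card_bot, Finset.prod_empty]
  | succ k ih =>
    have hne : (Fut cs h w).Nonempty := by
      rw [Set.nonempty_iff_ne_empty]
      intro h1
      rw [h1, Set.ncard_empty] at hn
      omega
    obtain ⟨y, hy⟩ := hne
    obtain ⟨i, hi⟩ := exists_simple hy
    set x := rep cs h w (sr i) with hxdef
    have hcard : (Fut cs h (w * cs.simple i)).ncard = k := by
      rw [fut_mul hi, Set.ncard_sdiff_singleton_of_mem (mem_fut hi), hn]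
      rfl
    have hsub : (s : Set (I → ℤ)) \ {x} ⊆ Fut cs h (w * cs.simple i) := by
      rw [fut_mul hi]
      exact Set.sdiff_subset_sdiff_left hS
    have hcl := closed_diff hi hS hc
    by_cases hx : x ∈ s
    · have e1 : ((s.erase x : Finset (I → ℤ)) : Set (I → ℤ)) = (s : Set (I → ℤ)) \ {x} := Finset.coe_erase x s
      have key := ih (w * cs.simple i) (s := s.erase x) (by rw [e1]; exact hsub) (by rw [e1]; exact hcl) hcard
      rw [e1] at key
      rw [← Finset.mul_prod_erase s _ hx, ← key]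
      have hpos : (s : Set (I → ℤ)) ⊆ Pos cs h := hS.trans (fut_subset_pos w)
      have hinf : X x ⊓ Sup X ((s : Set (I → ℤ)) \ {x}) = ⊥ := by
        rw [eq_bot_iff, ← tail_inf R (w := w) (i := i)]
        exact inf_le_inf_left _ (Sup_mono hsub)
      refine card_mul_of_disjoint (inf_le_inf_right _ (le_Sup (S := (s : Set (I → ℤ))) (Finset.mem_coe.2 hx)))
        (inf_le_inf_right _ (Sup_mono Set.sdiff_subset)) ?_ ?_
      · rintro g ⟨hg, hgf⟩
        obtain ⟨a, ha, b, hb, e⟩ := (mem_peel R hpos hc (Finset.mem_coe.2 hx)).1 hg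
        have hfa : ∀ β ∈ B, β a = a := by
          intro β hβ
          have hroot : ∀ z ∈ (s : Set (I → ℤ)), Fix β (X z) := fun z hz => fix_X R (D β hβ) (hpos hz).1
          have ha' : β a ∈ X x := (hroot x (Finset.mem_coe.2 hx) a).2 ha
          have hb' : β b ∈ Sup X ((s : Set (I → ℤ)) \ {x}) :=
            (fix_Sup (fun z hz => hroot z hz.1) b).2 hb
          have hgf' : β g = g := hgf β hβ
          rw [e, map_mul] at hgf'
          have e2 : a⁻¹ * β a = b * (β b)⁻¹ := by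
            rw [eq_mul_inv_iff_mul_eq, mul_assoc, hgf', inv_mul_cancel_left]
          have e3 : a⁻¹ * β a ∈ X x ⊓ Sup X ((s : Set (I → ℤ)) \ {x}) :=
            Subgroup.mem_inf.2 ⟨mul_mem (inv_mem ha) ha', by rw [e2]; exact mul_mem hb (inv_mem hb')⟩
          rw [hinf, Subgroup.mem_bot] at e3
          exact (inv_mul_eq_one.1 e3).symm
        refine ⟨a, ⟨ha, hfa⟩, b, ⟨hb, fun β hβ => ?_⟩, e⟩
        have hgf' : β g = g := hgf β hβ
        rw [e, map_mul, hfa β hβ] at hgf'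
        exact mul_left_cancel hgf'
      · rw [eq_bot_iff, ← hinf]
        exact inf_le_inf inf_le_left inf_le_left
    · have hs : (s : Set (I → ℤ)) \ {x} = s := Set.sdiff_singleton_eq_self (fun h => hx (Finset.mem_coe.1 h))
      rw [hs] at hsub
      exact ih (w * cs.simple i) hsub hc hcard

/-- the points of a join of root groups fixed by a set of frame automorphisms -/
theorem card_fix_sup [Finite W] {B : Set (MulAut Y)} (D : ∀ β ∈ B, Diag T X β 1) {s : Finset (I → ℤ)}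
    (hS : (s : Set (I → ℤ)) ⊆ Pos cs h) (hc : Closed cs h (s : Set (I → ℤ))) :
    Nat.card ↥(Sup X (s : Set (I → ℤ)) ⊓ FB B) = ∏ x ∈ s, Nat.card ↥(X x ⊓ FB B) := by
  rw [← fut_one] at hS
  exact card_fix_sup_fut R D 1 hS hc

theorem card_fix_NW_modEq [Finite W] {B : Set (MulAut Y)} (D : ∀ β ∈ B, Diag T X β 1) {k : ℕ}
    (hk : ∀ x, IsRoot cs h x → Nat.card ↥(X x ⊓ FB B) ≡ 1 [MOD k]) (w : W) :
    Nat.card ↥(Sup X (NW cs h w) ⊓ FB B) ≡ 1 [MOD k] := by
  classical
  have h1 := card_fix_sup R D (s := (finite_NW w).toFinset) (by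
    rw [Set.Finite.coe_toFinset]
    exact fun x hx => ⟨hx.1, hx.2.1⟩) (by
    rw [Set.Finite.coe_toFinset]
    exact closed_NW w)
  rw [Set.Finite.coe_toFinset] at h1
  rw [h1]
  have h2 : ∀ s : Finset (I → ℤ), (∀ x ∈ s, IsRoot cs h x) → ∏ x ∈ s, Nat.card ↥(X x ⊓ FB B) ≡ 1 [MOD k] := by
    intro s
    induction s using Finset.induction_on with
    | empty => intro _; rw [Finset.prod_empty]
    | insert a s ha ih =>
      intro hs
      rw [Finset.prod_insert ha]
      have := (hk a (hs a (Finset.mem_insert_self a s))).mul (ih fun x hx => hs x (Finset.mem_insert_of_mem hx))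
      rwa [one_mul] at this
  exact h2 _ fun x hx => ((Set.Finite.mem_toFinset _).1 hx).1

/-! ### chambers -/

section Chambers

variable [Finite Y] [Fact p.Prime]

/-- **The number of chambers fixed by a set of frame automorphisms.** -/
theorem card_fix_sylow [Fintype W] (hG : GG cs h T X = ⊤) {B : Set (MulAut Y)} (D : ∀ β ∈ B, Diag T X β 1) :
    Nat.card {S : Sylow p Y // ∀ β ∈ B, β • S = S} = ∑ w : W, Nat.card ↥(Sup X (NW cs h w) ⊓ FB B) := by
  classical
  obtain ⟨P, hP⟩ := exists_sylow_eq R hG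
  have hβP : ∀ β ∈ B, β • P = P := by
    intro β hβ
    rw [aut_smul_eq_iff, hP]
    exact fix_Sup fun x hx => fix_X R (D β hβ) hx.1
  have hex : ∀ w : W, ∃ k, Rp cs R.nsys w k := fun w => exists_rp cs R.nsys w
  choose k hk using hex
  have hmv : ∀ β ∈ B, ∀ (w : W) (v : Y), β • ((k w * v)⁻¹ • P) = (β (k w) * β v)⁻¹ • P := by
    intro β hβ w v
    rw [aut_smul_smul, hβP β hβ, map_inv, map_mul]
  have hT : ∀ {t g : Y}, t ∈ T → (t * g)⁻¹ • P = g⁻¹ • P := by
    intro t g ht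
    rw [mul_inv_rev, mul_smul, (smul_eq_iff_mem_B R hG hP).2 (RGD.T_le_B (inv_mem ht))]
  have hkβ : ∀ β ∈ B, ∀ w : W, ∃ t ∈ T, β (k w) = t * k w := by
    intro β hβ w
    refine ⟨β (k w) * (k w)⁻¹, ?_, by rw [inv_mul_cancel_right]⟩
    have := (fix_rp R (D β hβ) (hk w)).mul (hk w).inv
    rw [mul_inv_cancel] at this
    exact this.mem_of_one
  have hact : ∀ β ∈ B, ∀ (w : W) (v : Y), β • ((k w * v)⁻¹ • P) = (k w * β v)⁻¹ • P := by
    intro β hβ w v
    obtain ⟨t, ht, e⟩ := hkβ β hβ w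
    rw [hmv β hβ, e, mul_assoc, hT ht]
  let f : (Σ w : W, ↥(Sup X (NW cs h w) ⊓ FB B)) → {S : Sylow p Y // ∀ β ∈ B, β • S = S} := fun q =>
    ⟨(k q.1 * q.2)⁻¹ • P, fun β hβ => by
      have h1 : β (q.2 : Y) = q.2 := q.2.2.2 β hβ
      rw [hact β hβ, h1]⟩
  have hf : Function.Bijective f := by
    constructor
    · rintro ⟨w, ⟨v, hv, hvf⟩⟩ ⟨w', ⟨v', hv', hvf'⟩⟩ e
      have e1 : (k w * v)⁻¹ • P = (k w' * v')⁻¹ • P := congrArg Subtype.val e
      obtain ⟨rfl, rfl⟩ := cell_inj R hG hP (hk w) (hk w') hv hv' e1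
      rfl
    · rintro ⟨S, hS⟩
      obtain ⟨g₀, hg₀⟩ := MulAction.exists_smul_eq Y P S
      obtain ⟨g, rfl⟩ : ∃ g, g₀ = g⁻¹ := ⟨g₀⁻¹, (inv_inv g₀).symm⟩
      have hgG : g ∈ GG cs h T X := by rw [hG]; exact Subgroup.mem_top g
      obtain ⟨w, hw⟩ := (mem_GG R).1 hgG
      obtain ⟨u, hu, k', hk', v, hv, rfl⟩ := exists_normal_form R hw
      have e1 : S = (k w * v)⁻¹ • P := by
        have h1 : k' * (k w)⁻¹ ∈ T := by
          have := hk'.mul (hk w).inv
          rw [mul_inv_cancel] at this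
          exact this.mem_of_one
        have h2 : u * k' * v = u * ((k' * (k w)⁻¹) * (k w * v)) := by group
        rw [← hg₀, h2, mul_inv_rev, mul_smul, (smul_eq_iff_mem_B R hG hP).2 (RGD.U_le_B (inv_mem hu)), hT h1]
      have e2 : ∀ β ∈ B, β v = v := by
        intro β hβ
        have h1 := hS β hβ
        rw [e1, hact β hβ] at h1
        have hv' : β v ∈ Sup X (NW cs h w) := (fix_Sup (fun x hx => fix_X R (D β hβ) hx.1) v).2 hv
        exact (cell_inj R hG hP (hk w) (hk w) hv' hv h1).2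
      exact ⟨⟨w, ⟨v, hv, e2⟩⟩, Subtype.ext e1.symm⟩
  rw [← Nat.card_congr (Equiv.ofBijective f hf), Nat.card_sigma]

theorem card_sylowZ_modEq [Finite W] (hG : GG cs h T X = ⊤) {B : Set (MulAut Y)} (D : ∀ β ∈ B, Diag T X β 1) {k : ℕ}
    (hk : ∀ x, IsRoot cs h x → Nat.card ↥(X x ⊓ FB B) ≡ 1 [MOD k]) :
    Nat.card {S : Sylow p Y // ∀ β ∈ B, β • S = S} ≡ Nat.card W [MOD k] := by
  classical
  have := Fintype.ofFinite W
  rw [card_fix_sylow R hG D]
  have h2 : ∀ s : Finset W, ∑ w ∈ s, Nat.card ↥(Sup X (NW cs h w) ⊓ FB B) ≡ s.card [MOD k] := by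
    intro s
    induction s using Finset.induction_on with
    | empty => rw [Finset.sum_empty, Finset.card_empty]
    | insert a s ha ih =>
      rw [Finset.sum_insert ha, Finset.card_insert_of_notMem ha, Nat.add_comm s.card 1]
      exact (card_fix_NW_modEq R D hk a).add ih
  have := h2 Finset.univ
  rwa [Finset.card_univ, ← Nat.card_eq_fintype_card] at this

omit R in
/-- **Free orbits.** -/
theorem dvd_card' {C : Type*} [Finite C] {l : ℕ} (hl : l.Prime) {τ : Equiv.Perm C} {j m : ℕ} (hτ : τ ^ l ^ m = 1)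
    (hfree : ∀ y, (τ ^ l ^ j) y ≠ y) : l ^ (j + 1) ∣ Nat.card C := by
  classical
  by_cases hm : m ≤ j
  · -- `τ ^ l ^ j = 1`: there is no point
    have h1 : τ ^ l ^ j = 1 := by
      obtain ⟨d, rfl⟩ := Nat.exists_eq_add_of_le hm
      rw [pow_add, pow_mul, hτ, one_pow]
    have h2 : IsEmpty C := ⟨fun y => hfree y (by rw [h1]; rfl)⟩
    rw [Nat.card_of_isEmpty]
    exact dvd_zero _
  push Not at hm
  -- the subgroup generated by `τ`
  let _ : MulAction (Subgroup.zpowers τ) C := MulAction.compHom C (Subgroup.zpowers τ).subtype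
  have hsm : ∀ (g : Subgroup.zpowers τ) (y : C), g • y = (g : Equiv.Perm C) y := fun _ _ => rfl
  -- all orbits have length divisible by `l ^ (j + 1)`
  have horb : ∀ y : C, l ^ (j + 1) ∣ Nat.card (MulAction.orbit (Subgroup.zpowers τ) y) := by
    intro y
    have h1 : Nat.card (MulAction.orbit (Subgroup.zpowers τ) y) ∣ l ^ m := by
      rw [Nat.card_congr (MulAction.orbitEquivQuotientStabilizer (Subgroup.zpowers τ) y)]
      have h2 : Nat.card (Subgroup.zpowers τ) ∣ l ^ m := by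
        rw [Nat.card_zpowers]
        exact orderOf_dvd_of_pow_eq_one hτ
      exact (Subgroup.card_quotient_dvd_card _).trans h2
    obtain ⟨i, hi, e⟩ := (Nat.dvd_prime_pow hl).1 h1
    rw [e]
    apply pow_dvd_pow
    by_contra hcon
    have hij : i ≤ j := by omega
    -- then `τ ^ l ^ i` fixes `y`
    have h3 : (⟨τ, Subgroup.mem_zpowers τ⟩ : Subgroup.zpowers τ) ^ (l ^ i) ∈
        MulAction.stabilizer (Subgroup.zpowers τ) y := by
      have h4 : (MulAction.stabilizer (Subgroup.zpowers τ) y).index = l ^ i := by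
        rw [← e, Nat.card_congr (MulAction.orbitEquivQuotientStabilizer (Subgroup.zpowers τ) y)]
        rfl
      have hcomm : IsMulCommutative (Subgroup.zpowers τ) := inferInstance
      have hn : (MulAction.stabilizer (Subgroup.zpowers τ) y).Normal := by
        constructor
        intro a ha g
        have : g * a * g⁻¹ = a := by
          obtain ⟨i, hi⟩ := Subgroup.mem_zpowers_iff.1 g.2
          obtain ⟨i', hi'⟩ := Subgroup.mem_zpowers_iff.1 a.2
          apply Subtype.ext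
          show (g : Equiv.Perm C) * a * (g : Equiv.Perm C)⁻¹ = a
          rw [← hi, ← hi']
          group
        rw [this]
        exact ha
      rw [← h4]
      exact Subgroup.pow_index_mem _ _
    rw [MulAction.mem_stabilizer_iff, hsm] at h3
    have h5 : (τ ^ l ^ i) y = y := h3
    apply hfree y
    obtain ⟨d, rfl⟩ := Nat.exists_eq_add_of_le hij
    rw [pow_add, pow_mul]
    exact BpExc.TorCount.pow_fix _ _ h5
  have := Fintype.ofFinite C
  rw [Nat.card_congr (MulAction.selfEquivSigmaOrbits (Subgroup.zpowers τ) C), Nat.card_sigma]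
  apply Finset.dvd_sum
  rintro ω -
  obtain ⟨y, rfl⟩ := Quotient.exists_rep ω
  exact horb _

/-- **A chamber fixed by `B` and by `x`.** -/
theorem exists_fix_of_langZ [Finite W] (hG : GG cs h T X = ⊤) {l : ℕ} (hl : l.Prime) {B : Set (MulAut Y)}
    (DB : ∀ β ∈ B, Diag T X β 1) {x z : Y} {f : MulAut Y} {j m : ℕ} (hx : x ^ l ^ m = 1) (hfx : f x = x)
    (hfB : ∀ β ∈ B, Commute β f) (hzB : ∀ β ∈ B, β z = z)
    (hz : z⁻¹ * (f ^ l ^ j) z = x) (D : Diag T X (f ^ l ^ j) 1)
    (hk : ∀ a, IsRoot cs h a → Nat.card ↥(X a ⊓ FB (insert (f ^ l ^ j) B)) ≡ 1 [MOD l ^ (j + 1)])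
    (hW : ¬ l ^ (j + 1) ∣ Nat.card W) : ∃ S : Sylow p Y, (∀ β ∈ B, β • S = S) ∧ MulAut.conj x • S = S := by
  classical
  by_contra hcon
  push Not at hcon
  have h1 := card_sylowZ_modEq R hG (B := insert (f ^ l ^ j) B) (fun β hβ => by
    rcases Set.mem_insert_iff.1 hβ with rfl | hβ
    · exact D
    · exact DB β hβ) hk
  set γ := MulAut.conj x * f ^ l ^ j with hγ
  have he : γ = (MulAut.conj z)⁻¹ * f ^ l ^ j * MulAut.conj z := by
    rw [hγ, ← hz]
    have h2 : f ^ l ^ j * MulAut.conj z = MulAut.conj ((f ^ l ^ j) z) * f ^ l ^ j := (conj_mul_eq _ _)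
    rw [mul_assoc, h2, ← mul_assoc, ← map_inv, ← map_mul]
  -- the fixed chambers are in bijection
  have h2 : Nat.card {S : Sylow p Y // (∀ β ∈ B, β • S = S) ∧ γ • S = S} =
      Nat.card {S : Sylow p Y // ∀ β ∈ insert (f ^ l ^ j) B, β • S = S} := by
    refine Nat.card_congr ⟨fun S => ⟨MulAut.conj z • S.1, ?_⟩, fun S => ⟨(MulAut.conj z)⁻¹ • S.1, ?_, ?_⟩,
      fun S => Subtype.ext (inv_smul_smul _ _), fun S => Subtype.ext (smul_inv_smul _ _)⟩
    · intro β hβ
      rcases Set.mem_insert_iff.1 hβ with rfl | hβ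
      · have h3 : ((MulAut.conj z)⁻¹ * f ^ l ^ j * MulAut.conj z) • S.1 = S.1 := by
          rw [← he]
          exact S.2.2
        rw [mul_smul, mul_smul, inv_smul_eq_iff] at h3
        exact h3
      · rw [← mul_smul, conj_mul_eq, hzB β hβ, mul_smul, S.2.1 β hβ]
    · intro β hβ
      rw [← map_inv, ← mul_smul, conj_mul_eq, map_inv β, hzB β hβ, mul_smul,
        S.2 β (Set.mem_insert_of_mem _ hβ)]
    · rw [he, mul_smul, mul_smul, smul_inv_smul, S.2 _ (Set.mem_insert _ _)]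
  rw [← h2] at h1
  have hγf : Commute γ f := by
    rw [hγ]
    refine Commute.mul_left ?_ ((Commute.refl f).pow_left _)
    show MulAut.conj x * f = f * MulAut.conj x
    rw [conj_mul_eq, hfx]
  let τ : Equiv.Perm {S : Sylow p Y // (∀ β ∈ B, β • S = S) ∧ γ • S = S} :=
    { toFun := fun S => ⟨f • S.1, fun β hβ => by rw [← mul_smul, (hfB β hβ).eq, mul_smul, S.2.1 β hβ],
        by rw [← mul_smul, hγf.eq, mul_smul, S.2.2]⟩
      invFun := fun S => ⟨f⁻¹ • S.1, fun β hβ => by rw [← mul_smul, (hfB β hβ).inv_right.eq, mul_smul, S.2.1 β hβ],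
        by rw [← mul_smul, hγf.inv_right.eq, mul_smul, S.2.2]⟩
      left_inv := fun S => Subtype.ext (inv_smul_smul f S.1)
      right_inv := fun S => Subtype.ext (smul_inv_smul f S.1) }
  have hτ : ∀ (k : ℕ) (S : {S : Sylow p Y // (∀ β ∈ B, β • S = S) ∧ γ • S = S}), ((τ ^ k) S).1 = (f ^ k) • S.1 := by
    intro k
    induction k with
    | zero => intro S; rw [pow_zero, pow_zero, one_smul]; rfl
    | succ k ih =>
      intro S
      rw [pow_succ, Equiv.Perm.mul_apply, ih, pow_succ, mul_smul]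
      rfl
  -- `f ^ l ^ j` acts as `x⁻¹`
  have hj : ∀ S : {S : Sylow p Y // (∀ β ∈ B, β • S = S) ∧ γ • S = S},
      (f ^ l ^ j) • S.1 = (MulAut.conj x)⁻¹ • S.1 := by
    intro S
    rw [eq_inv_smul_iff, ← mul_smul]
    exact S.2.2
  have key : ∀ (k : ℕ) (S : {S : Sylow p Y // (∀ β ∈ B, β • S = S) ∧ γ • S = S}),
      (((τ ^ l ^ j) ^ k) S).1 = ((MulAut.conj x)⁻¹ ^ k) • S.1 := by
    intro k
    induction k with
    | zero => intro S; rw [pow_zero, pow_zero, one_smul]; rfl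
    | succ k ih =>
      intro S
      rw [pow_succ, Equiv.Perm.mul_apply, ih, hτ, hj, pow_succ, mul_smul]
  have h3 := dvd_card' hl (τ := τ) (j := j) (m := j + m) (by
    ext1 S
    apply Subtype.ext
    rw [pow_add, pow_mul, key, inv_pow, ← map_pow, hx, map_one, inv_one, one_smul]
    rfl) (by
    intro S hS
    apply hcon S.1 S.2.1
    have h4 := key 1 S
    rw [pow_one, pow_one, hS, eq_inv_smul_iff] at h4
    exact h4)
  exact hW ((Nat.modEq_zero_iff_dvd.1 (h1.symm.trans (Nat.modEq_zero_iff_dvd.2 h3))))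

/-- **An `l`-subgroup fixing a chamber is conjugate into `T`.** -/
theorem exists_conj_le_T [Finite W] (hG : GG cs h T X = ⊤) {l : ℕ} (hl : l.Prime) (hlp : l ≠ p) {Q : Subgroup Y}
    (hQ : IsPGroup l ↥Q) {S : Sylow p Y} (hS : ∀ x ∈ Q, MulAut.conj x • S = S) : ∃ g : Y, ∀ x ∈ Q, g * x * g⁻¹ ∈ T := by
  classical
  have hfl : Fact l.Prime := ⟨hl⟩
  obtain ⟨P, hP⟩ := exists_sylow_eq R hG
  obtain ⟨g₀, hg₀⟩ := MulAction.exists_smul_eq Y P S
  -- the conjugate subgroup of `B`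
  set B := RGD.B cs h T X with hB
  have hQB : ∀ x ∈ Q, g₀⁻¹ * x * g₀ ∈ B := by
    intro x hx
    rw [hB, ← smul_eq_iff_mem_B R hG hP, mul_smul, hg₀, mul_smul]
    have h1 : x • S = S := hS x hx
    rw [h1, ← hg₀, inv_smul_smul]
  set U := RGD.Sup X (RGD.Pos cs h) with hU
  have hTB : T ≤ B := RGD.T_le_B
  have hUB : U ≤ B := RGD.U_le_B
  have hcompl : Subgroup.IsComplement' (T.subgroupOf B) (U.subgroupOf B) := by
    apply Subgroup.isComplement'_of_disjoint_and_mul_eq_univ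
    · rw [Subgroup.disjoint_def]
      rintro x hx1 hx2
      have h1 : (x : Y) ∈ RGD.Sup X (RGD.Pos cs h) ⊓ T := ⟨hx2, hx1⟩
      rw [U_inf_T R, Subgroup.mem_bot] at h1
      exact Subtype.ext h1
    · rw [Set.eq_univ_iff_forall]
      rintro ⟨x, hx⟩
      obtain ⟨t, ht, u, hu, e⟩ := R.mem_B.1 hx
      exact ⟨⟨t, hTB ht⟩, ht, ⟨u, hUB hu⟩, hu, Subtype.ext e.symm⟩
  have hidxT : ¬ l ∣ (T.subgroupOf B).index := by
    rw [hcompl.symm.index_eq_card]
    have h1 : IsPGroup p ↥(U.subgroupOf B) := R.isPGroup_Upos.comap_of_injective B.subtype B.subtype_injective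
    obtain ⟨k, hk⟩ := IsPGroup.iff_card.1 h1
    intro hd
    rw [hk] at hd
    exact hlp ((Nat.prime_dvd_prime_iff_eq hl Fact.out).1 (hl.dvd_of_dvd_pow hd))
  obtain ⟨L⟩ := (inferInstance : Nonempty (Sylow l ↥(T.subgroupOf B)))
  have hLp : IsPGroup l ↥((L : Subgroup ↥(T.subgroupOf B)).map (T.subgroupOf B).subtype) := L.isPGroup'.map _
  have hidx : ¬ l ∣ ((L : Subgroup ↥(T.subgroupOf B)).map (T.subgroupOf B).subtype).index := by
    rw [Subgroup.index_map_subtype]
    intro hd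
    rcases hl.dvd_mul.1 hd with h1 | h1
    · exact L.not_dvd_index h1
    · exact hidxT h1
  let L' : Sylow l ↥B := hLp.toSylow hidx
  have hQ' : IsPGroup l ↥((Q.map (MulAut.conj g₀⁻¹).toMonoidHom).subgroupOf B) :=
    (hQ.map _).comap_of_injective B.subtype B.subtype_injective
  obtain ⟨P', hP'⟩ := hQ'.exists_le_sylow
  obtain ⟨b, hb⟩ := MulAction.exists_smul_eq ↥B P' L'
  refine ⟨b * g₀⁻¹, fun x hx => ?_⟩
  have h1 : (⟨g₀⁻¹ * x * g₀, hQB x hx⟩ : ↥B) ∈ (P' : Subgroup ↥B) := by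
    apply hP'
    rw [Subgroup.mem_subgroupOf]
    refine ⟨x, hx, ?_⟩
    show g₀⁻¹ * x * g₀⁻¹⁻¹ = _
    rw [inv_inv]
  have h2 : b * ⟨g₀⁻¹ * x * g₀, hQB x hx⟩ * b⁻¹ ∈ (L' : Subgroup ↥B) := by
    rw [← hb, Sylow.coe_subgroup_smul, Subgroup.mem_pointwise_smul_iff_inv_smul_mem, ← map_inv, MulAut.smul_def,
      MulAut.conj_apply, inv_inv]
    have e : b⁻¹ * (b * ⟨g₀⁻¹ * x * g₀, hQB x hx⟩ * b⁻¹) * b = ⟨g₀⁻¹ * x * g₀, hQB x hx⟩ := by group
    rw [e]
    exact h1
  obtain ⟨y, -, hy⟩ := h2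
  have h3 : ((y : ↥B) : Y) ∈ T := y.2
  have h4 : ((y : ↥B) : Y) = (b : Y) * (g₀⁻¹ * x * g₀) * (b : Y)⁻¹ := congrArg Subtype.val hy
  rw [h4] at h3
  have e : (b : Y) * g₀⁻¹ * x * ((b : Y) * g₀⁻¹)⁻¹ = (b : Y) * (g₀⁻¹ * x * g₀) * (b : Y)⁻¹ := by group
  rw [e]
  exact h3

end Chambers

end Cfsg.Agent.H795.TorCnt
end
end
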