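import Cfsg.Agent.BpExc.AsmN_m3
import Cfsg.Agent.H795.TorCnt
import Cfsg.Agent.H795.SetTor_m3
import Cfsg.Agent.H129.TorusChar
import Cfsg.Agent.FastGrp
import Cfsg.Agent.Prune
set_option linter.all false
prune_inst 0x7f00000000000000000000000000000000000000000000000000000000000000000000000000000000000000000000000000000000000000000000000000000000000000000000000000000000000000003fffffffffffffffffffffffffffbeffbdffffffff
open scoped Cfsg.Agent.FastGrp

/-!
# Toral `q`-subgroups of `D.group k`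

`k` algebraically closed of characteristic `r`, locally finite, `q ≠ r` a prime.

* `exists_toral_of_not_dvd` : `q ∤ |W|`: every finite `q`-subgroup of `D.group k` is conjugate into the torus;
* `exists_toral_abelian` : `q ^ 2 ∤ |W|` and `Tors cs h q`: every finite abelian `q`-subgroup is conjugate into the torus.
-/

set_option autoImplicit false
set_option linter.unusedSectionVars false

namespace Cfsg.Agent.H795.TorSub

open CoxeterSystem Cfsg Cfsg.Lie Cfsg.Lie.ChevalleyDatum
open Cfsg.Agent.ChevalleyStructure Cfsg.Agent.ChevalleyStructure.Elts Cfsg.Agent.ChevalleyStructure.CoxeterGeom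
  Cfsg.Agent.ChevalleyStructure.CoxeterGeomTypes Cfsg.Agent.ChevalleyStructure.NPerm
open Cfsg.Agent.Tits.Roots Cfsg.Agent.Tits.Core Cfsg.Agent.Nodes Cfsg.Agent.Nodes.Reps Cfsg.Agent.Nodes.BNOf
  Cfsg.Agent.Nodes.RGDChev Cfsg.Agent.Nodes.Bruhat Cfsg.Agent.Nodes.OppDec
open Cfsg.Agent.KFacts.RgdField Cfsg.Agent.KFacts.RgdChevCoord Cfsg.Agent.BpExc.TorCent Cfsg.Agent.BpExc.TorChev
open Cfsg.Agent.CpAut.RgdFix Cfsg.Agent.CpAut.RgdSub Cfsg.Agent.KFacts.RgdDiag
open Cfsg.Agent.GpExc.Field Cfsg.Agent.BpExc.Tow Cfsg.Agent.BpExc.TowChev Cfsg.Agent.BpExc.TorAll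
  Cfsg.Agent.BpExc.FamUntw Cfsg.Agent.BpExc.FamInst Cfsg.Agent.BpExc.LangFr
open Cfsg.Agent.CpAut.RgdUntw
open Cfsg.Agent.H795.SetCent Cfsg.Agent.H795.SetTor Cfsg.Agent.H795.TorCnt
open scoped commutatorElement Pointwise

universe u

variable {D : ChevalleyDatum} {l : ℕ} {M : CoxeterMatrix (Fin l)} (hp : IsType D l M)
  (r : ℕ) [Fact r.Prime] {k : Type u} [Field k] [IsAlgClosed k] [CharP k r]

/-! ### levels -/

/-- the Frobenius automorphism on a level -/
theorem emb_fG (N m : ℕ) (y : ↥(D.group ↥(EE r N : Subfield k))) :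
    emb hp.inList (EE r N : Subfield k).subtype (fG D (frE r N m) y) =
      phi D k r m (emb hp.inList (EE r N : Subfield k).subtype y) := by
  apply Subtype.ext
  apply Units.ext
  rw [phi_coe, coe_emb, coe_emb, coe_glMap, coe_glMap, fG_coe]
  ext i j
  rfl

theorem emb_fG_pow (N m j : ℕ) (y : ↥(D.group ↥(EE r N : Subfield k))) :
    emb hp.inList (EE r N : Subfield k).subtype (((fG D (frE r N m)) ^ j) y) =
      (phi D k r m ^ j) (emb hp.inList (EE r N : Subfield k).subtype y) := by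
  induction j generalizing y with
  | zero => rfl
  | succ j ih => rw [pow_succ, MulAut.mul_apply, ih, emb_fG hp, pow_succ, MulAut.mul_apply]

/-- the Frobenius automorphism fixes the level -/
theorem phi_range {m m' : ℕ} (h : m ∣ m') {y : ↥(D.group k)}
    (hy : y ∈ (emb hp.inList (EE r m : Subfield k).subtype).range) : phi D k r m' y = y := by
  obtain ⟨x, rfl⟩ := hy
  apply Subtype.ext
  apply Units.ext
  rw [phi_coe, coe_emb, coe_glMap]
  ext i j
  exact (mem_EE r).1 (EE_le r h ((((x : GL D.Idx ↥(EE r m : Subfield k)) : Matrix D.Idx D.Idx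
    ↥(EE r m : Subfield k))) i j).2)

/-- a finite subfield is contained in a standard one -/
theorem exists_EE_le (E : Lev k) : ∃ n, 0 < n ∧ E.1 ≤ EE r n := by
  have := charP_lev r E.1
  obtain ⟨n, hn0, hn⟩ := BpExc.FamField.exists_card (F := ↥E.1) r
  refine ⟨n, hn0, fun a ha => (mem_EE r).2 ?_⟩
  have h1 := (BpExc.FamField.forall_pow_iff r hn n).2 dvd_rfl (⟨a, ha⟩ : ↥E.1)
  exact congrArg Subtype.val h1

variable (hk : LocFin k)

include hk in
/-- a finite subset of the group and a finite subset of the torus live over some `EE r N`, `d ∣ N` -/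
theorem exists_level_EE {S Z : Set ↥(D.group k)} (hS : S.Finite) (hZ : Z.Finite) (hZT : Z ⊆ TT D k) {d : ℕ}
    (hd : 0 < d) : ∃ N, 0 < N ∧ d ∣ N ∧ S ⊆ (emb hp.inList (EE r N : Subfield k).subtype).range ∧
      ∀ t ∈ Z, ∃ t' ∈ TT D ↥(EE r N : Subfield k), emb hp.inList (EE r N : Subfield k).subtype t' = t := by
  obtain ⟨E1, h1⟩ := BpExc.TowChev.exists_level_finite hp hk hS
  -- the torus elements
  obtain ⟨E2, h2⟩ : ∃ E2 : Lev k, ∀ E' : Lev k, E2 ≤ E' → ∀ t ∈ Z, ∃ t' ∈ TT D ↥E'.1,
      emb hp.inList E'.1.subtype t' = t := by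
    induction Z, hZ using Set.Finite.induction_on with
    | empty =>
      obtain ⟨E⟩ := nonempty_lev hk
      exact ⟨E, fun _ _ t ht => absurd ht (Set.notMem_empty t)⟩
    | @insert a S _ _ ih =>
      obtain ⟨E, hE⟩ := ih fun t ht => hZT (Set.mem_insert_of_mem _ ht)
      obtain ⟨E', hE'⟩ := exists_TT hp hk (hZT (Set.mem_insert a S))
      obtain ⟨E'', h1, h2⟩ := dir_lev hk E E'
      refine ⟨E'', fun E₀ h0 t ht => ?_⟩
      rcases Set.mem_insert_iff.1 ht with rfl | ht
      · exact hE' E₀ (h2.trans h0)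
      · exact hE E₀ (h1.trans h0) t ht
  obtain ⟨E, h3, h4⟩ := dir_lev hk E1 E2
  obtain ⟨n, hn0, hn⟩ := exists_EE_le r E
  have hfin : Finite ↥(EE r (n * d) : Subfield k) := finite_EE r (Nat.mul_pos hn0 hd)
  have hle : E ≤ (⟨EE r (n * d), hfin⟩ : Lev k) := hn.trans (EE_le r (Dvd.intro _ rfl))
  exact ⟨n * d, Nat.mul_pos hn0 hd, Dvd.intro_left _ rfl, h1 ⟨EE r (n * d), hfin⟩ (h3.trans hle),
    h2 ⟨EE r (n * d), hfin⟩ (h4.trans hle)⟩

/-! ### the root groups -/

variable {W : Type*} [Group W] (cs : CoxeterSystem M W)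

include r in
theorem card_XX {K : Type u} [Field K] [Finite K] [CharP K r] {a : Fin l → ℤ} (ha : IsRoot cs hp.isCartan a) :
    Nat.card ↥(XX D l K a) = Nat.card K := by
  have C := coords (K := K) hp cs r
  symm
  refine Nat.card_congr (Equiv.ofBijective (fun s => (⟨xc hp a s, ((C.coord _ ha).mem _).2 ⟨_, rfl⟩⟩ :
    ↥(XX D l K a))) ⟨?_, ?_⟩)
  · intro s s' e
    exact (C.coord _ ha).inj (congrArg Subtype.val e)
  · rintro ⟨y, hy⟩
    obtain ⟨s, rfl⟩ := ((C.coord _ ha).mem y).1 hy
    exact ⟨s, rfl⟩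

include hp hk in
/-- **`q`-subgroups are toral if `q` does not divide the order of the Weyl group.** -/
theorem exists_toral_of_not_dvd {q : ℕ} (hq : q.Prime) (hqr : q ≠ r) (hW : ¬ q ∣ Nat.card M.Group)
    {Q : Subgroup ↥(D.group k)} [Finite ↥Q] (hQ : IsPGroup q ↥Q) : ∃ g : ↥(D.group k), ∀ x ∈ Q, g * x * g⁻¹ ∈ TT D k := by
  classical
  have hr : r.Prime := Fact.out
  have hfq : Fact q.Prime := ⟨hq⟩
  have hWf := finite_W hp (M.toCoxeterSystem)
  obtain ⟨N, hN, hdN, hS, -⟩ := exists_level_EE hp r hk (Set.toFinite (Q : Set ↥(D.group k)))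
    Set.finite_empty (Set.empty_subset _) (Nat.totient_pos.2 hq.pos)
  have hcop : r.Coprime q := (Nat.coprime_primes hr hq).2 (Ne.symm hqr)
  have hN1 : r ^ N ≡ 1 [MOD q] := by
    obtain ⟨d, rfl⟩ := hdN
    rw [pow_mul]
    have := (Nat.ModEq.pow_totient hcop).pow d
    rwa [one_pow] at this
  have hfinN : Finite ↥(EE r N : Subfield k) := finite_EE r hN
  have : CharP ↥(EE r N : Subfield k) r := charP_fixF r _
  have hGfin : Finite ↥(D.group ↥(EE r N : Subfield k)) := finite_group
  have R := rgd (K := ↥(EE r N : Subfield k)) hp M.toCoxeterSystem r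
  have hG := GG_top (K := ↥(EE r N : Subfield k)) hp M.toCoxeterSystem
  set f := emb hp.inList (EE r N : Subfield k).subtype with hf
  have hinj : Function.Injective f := emb_injective hp.inList _
  have hQ' : IsPGroup q ↥(Q.comap f) := hQ.comap_of_injective f hinj
  -- the chambers
  have h1 := card_sylowZ_modEq R hG (B := ∅) (fun β hβ => absurd hβ (Set.notMem_empty β)) (k := q) (fun a ha => by
    have h2 : (FB (∅ : Set (MulAut ↥(D.group ↥(EE r N : Subfield k))))) = ⊤ := by
      rw [eq_top_iff]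
      intro y _ β hβ
      exact absurd hβ (Set.notMem_empty β)
    rw [h2, inf_top_eq, card_XX hp r M.toCoxeterSystem ha, card_EE r hN]
    exact hN1)
  have h2 : Nat.card {S : Sylow r ↥(D.group ↥(EE r N : Subfield k)) // ∀ β ∈ (∅ : Set (MulAut ↥(D.group ↥(EE r N : Subfield k)))), β • S = S} =
      Nat.card (Sylow r ↥(D.group ↥(EE r N : Subfield k))) :=
    Nat.card_congr ⟨fun S => S.1, fun S => ⟨S, fun β hβ => absurd hβ (Set.notMem_empty β)⟩, fun _ => rfl, fun _ => rfl⟩
  rw [h2] at h1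
  have h3 : ¬ q ∣ Nat.card (Sylow r ↥(D.group ↥(EE r N : Subfield k))) := by
    intro hd
    exact hW (Nat.modEq_zero_iff_dvd.1 (h1.symm.trans (Nat.modEq_zero_iff_dvd.2 hd)))
  obtain ⟨S, hSf⟩ := hQ'.nonempty_fixed_point_of_prime_not_dvd_card (Sylow r ↥(D.group ↥(EE r N : Subfield k))) h3
  obtain ⟨g, hg⟩ := exists_conj_le_T R hG hq hqr hQ' (S := S) (fun x hx => hSf ⟨x, hx⟩)
  refine ⟨f g, fun x hx => ?_⟩
  obtain ⟨y, rfl⟩ := hS hx
  rw [← map_mul, ← map_inv, ← map_mul]
  exact emb_T hp _ ⟨_, hg y hx, rfl⟩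

/-! ### Lang's theorem for the torus -/

include hp in
theorem hc_mul (j : Fin l) {a b : k} (ha : a ≠ 0) (hb : b ≠ 0) : hc hp j a * hc hp j b = hc hp j (a * b) := by
  refine H129.TorusChar.cX_inj hp (mul_mem (hc_mem hp j ha) (hc_mem hp j hb)) (hc_mem hp j (mul_ne_zero ha hb))
    fun i => ?_
  rw [H129.TorusChar.cX_mul hp (hc_mem hp j ha) (hc_mem hp j hb), H129.TorusChar.cX_sr, H129.TorusChar.cX_sr,
    H129.TorusChar.cX_sr, ← vec_simple hp i, ch_hc hp j ha (simple_lt hp.inList (lt_rank hp i)),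
    ch_hc hp j hb (simple_lt hp.inList (lt_rank hp i)),
    ch_hc hp j (mul_ne_zero ha hb) (simple_lt hp.inList (lt_rank hp i)), mul_zpow]

include hp in
/-- Lang's theorem for the torus -/
theorem lang_TT {m : ℕ} (hm : 0 < m) {t : ↥(D.group k)} (ht : t ∈ TT D k) :
    ∃ s ∈ TT D k, t = s⁻¹ * phi D k r m s := by
  have hr : r.Prime := Fact.out
  have hq1 : 0 < r ^ m - 1 := Nat.sub_pos_of_lt (Nat.one_lt_pow hm.ne' hr.one_lt)
  have hcomm := TT_comm hp (K := k)
  have key : ∀ t ∈ Subgroup.closure {g | ∃ (j : Fin l) (c : k), c ≠ 0 ∧ g = hc hp j c},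
      ∃ s ∈ TT D k, t = s⁻¹ * phi D k r m s := by
    intro t ht
    have hphi : ∀ s ∈ TT D k, phi D k r m s ∈ TT D k := fun s hs => fld_T hp hs
    induction ht using Subgroup.closure_induction with
    | mem g hg =>
      obtain ⟨j, c, hc0, rfl⟩ := hg
      obtain ⟨d, hd⟩ := IsAlgClosed.exists_pow_nat_eq c hq1
      have hd0 : d ≠ 0 := by
        rintro rfl
        rw [zero_pow hq1.ne'] at hd
        exact hc0 hd.symm
      refine ⟨hc hp j d, hc_mem hp j hd0, ?_⟩
      have h1 : phi D k r m (hc hp j d) = hc hp j (d ^ r ^ m) := by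
        show fld D _ (hc hp j d) = _
        rw [fld_eq_emb hp, emb_hc]
        congr 1
        exact BpExc.FamField.frb_apply k r m d
      rw [h1, eq_inv_mul_iff_mul_eq, ← hd]
      rw [hc_mul hp j hd0 (pow_ne_zero _ hd0), ← pow_succ', Nat.sub_add_cancel (Nat.one_le_pow _ _ hr.pos)]
    | one => exact ⟨1, one_mem _, by rw [map_one, inv_one, mul_one]⟩
    | mul a b _ _ ha hb =>
      obtain ⟨s, hs, rfl⟩ := ha
      obtain ⟨s', hs', rfl⟩ := hb
      refine ⟨s * s', mul_mem hs hs', ?_⟩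
      rw [map_mul, mul_inv_rev]
      have e1 := hcomm _ (hphi s hs) _ (inv_mem hs')
      have e2 := hcomm _ (inv_mem hs) _ (inv_mem hs')
      calc s⁻¹ * phi D k r m s * (s'⁻¹ * phi D k r m s') = s⁻¹ * (phi D k r m s * s'⁻¹) * phi D k r m s' := by group
        _ = s⁻¹ * (s'⁻¹ * phi D k r m s) * phi D k r m s' := by rw [e1]
        _ = (s⁻¹ * s'⁻¹) * phi D k r m s * phi D k r m s' := by group
        _ = _ := by rw [e2]; group
    | inv a _ ha =>
      obtain ⟨s, hs, rfl⟩ := ha
      refine ⟨s⁻¹, inv_mem hs, ?_⟩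
      rw [map_inv, mul_inv_rev]
      exact (hcomm _ (inv_mem (inv_mem hs)) _ (inv_mem (hphi s hs))).symm
  exact key t (TT_le hp ht)

/-! ### abelian subgroups -/

include hk in
/-- **The induction step.** -/
theorem exists_toral_step {q e n : ℕ} (hq : q.Prime) (hqr : q ≠ r) (hW : ¬ q ^ (e + 1) ∣ Nat.card M.Group)
    {Z : Set ↥(D.group k)} (hfin : Z.Finite) (hZ : Z ⊆ TT D k) {x m₀ t₀ : ↥(D.group k)} (hx : x = m₀ * t₀)
    (hm₀ : m₀ ∈ MMZ M.toCoxeterSystem hp.isCartan (XX D l k) (ch hp) Z) (ht₀ : t₀ ∈ TT D k)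
    (hxq : x ^ q ^ n = 1) {Q : Subgroup ↥(D.group k)} (hQ : IsPGroup q ↥Q) (hQle : Q ≤ Subgroup.closure (insert x Z)) :
    ∃ g : ↥(D.group k), ∀ y ∈ Q, g * y * g⁻¹ ∈ TT D k := by
  classical
  have hr : r.Prime := Fact.out
  have hfq : Fact q.Prime := ⟨hq⟩
  have hWf := finite_W hp (M.toCoxeterSystem)
  have hcomm := TT_comm hp (K := k)
  have CL := coordsL hp M.toCoxeterSystem hk r
  have hcop : r.Coprime (q ^ (e + 1)) := Nat.Coprime.pow_right _ ((Nat.coprime_primes hr hq).2 (Ne.symm hqr))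
  -- the elements commuting with `Z`
  have hmZ : ∀ y ∈ MMZ M.toCoxeterSystem hp.isCartan (XX D l k) (ch hp) Z, ∀ t ∈ Z, t * y = y * t := fun y hy t ht =>
    Subgroup.mem_centralizer_iff.1 (MMZ_le_centralizer CL hZ hy) t ht
  -- the levels
  obtain ⟨m0, hm0, -, hS0, hZ0⟩ := exists_level_EE hp r hk (S := insert x Z) (hfin.insert x) hfin hZ (d := 1) one_pos
  set m := m0 * (q ^ (e + 1)).totient with hmdef
  have hm : 0 < m := Nat.mul_pos hm0 (Nat.totient_pos.2 (pow_pos hq.pos _))
  have h01 : m0 ∣ m := Dvd.intro _ rfl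
  have hrm : r ^ m ≡ 1 [MOD q ^ (e + 1)] := by
    rw [hmdef, mul_comm, pow_mul]
    have := (Nat.ModEq.pow_totient hcop).pow m0
    rwa [one_pow] at this
  set m1 := m * q ^ e with hm1def
  have hm1 : 0 < m1 := Nat.mul_pos hm (pow_pos hq.pos _)
  have hmm1 : m ∣ m1 := Dvd.intro _ rfl
  -- Lang's theorem
  obtain ⟨s, hs, hst⟩ := lang_TT hp r hm1 ht₀
  have hsm : s * m₀ * s⁻¹ ∈ MMZ M.toCoxeterSystem hp.isCartan (XX D l k) (ch hp) Z := by
    have H := tow hp M.toCoxeterSystem hk r
    have h1 := H.T_le_normalizer (S := SxZ M.toCoxeterSystem hp.isCartan (ch hp) Z) (fun a ha => ha.1)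
    rw [TL_eq hp hk, XL_eq hp hk] at h1
    exact (Subgroup.mem_normalizer_iff.1 (h1 hs) m₀).1 hm₀
  obtain ⟨y, hy, hye⟩ := lang_fr hp M.toCoxeterSystem hm1 (phi_isFrob r m1) (phi_fr hp M.toCoxeterSystem r hk m1)
    (S := SxZ M.toCoxeterSystem hp.isCartan (ch hp) Z) (fun a ha => ha.1) (fun a ha => ha) hsm
  set z := y * s with hz
  have hzx : z⁻¹ * phi D k r m1 z = x := by
    rw [hz, hx, map_mul, hst]
    have h1 : y⁻¹ * phi D k r m1 y = s * m₀ * s⁻¹ := hye.symm
    calc (y * s)⁻¹ * (phi D k r m1 y * phi D k r m1 s) = s⁻¹ * (y⁻¹ * phi D k r m1 y) * phi D k r m1 s := by group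
      _ = _ := by rw [h1]; group
  have hzZ : ∀ t ∈ Z, t * z = z * t := by
    intro t ht
    rw [hz, ← mul_assoc, hmZ y hy t ht, mul_assoc, hcomm t (hZ ht) s hs, mul_assoc]
  -- the large level
  obtain ⟨N, hN, hm1N, hSN, hZN⟩ := exists_level_EE hp r hk (S := insert z (insert x Z)) ((hfin.insert x).insert z)
    hfin hZ hm1
  have h0N : m0 ∣ N := (h01.trans hmm1).trans hm1N
  have hfinN : Finite ↥(EE r N : Subfield k) := finite_EE r hN
  have : CharP ↥(EE r N : Subfield k) r := charP_fixF r _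
  have hGfin : Finite ↥(D.group ↥(EE r N : Subfield k)) := finite_group
  have R := rgd (K := ↥(EE r N : Subfield k)) hp M.toCoxeterSystem r
  have C := coords (K := ↥(EE r N : Subfield k)) hp M.toCoxeterSystem r
  have hG := GG_top (K := ↥(EE r N : Subfield k)) hp M.toCoxeterSystem
  set f := emb hp.inList (EE r N : Subfield k).subtype with hf
  have hinj : Function.Injective f := emb_injective hp.inList _
  obtain ⟨x', hx'⟩ := hSN (Set.mem_insert_of_mem z (Set.mem_insert x Z))
  obtain ⟨z', hz'⟩ := hSN (Set.mem_insert z (insert x Z))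
  set Z' : Set ↥(D.group ↥(EE r N : Subfield k)) := {t | t ∈ TT D ↥(EE r N : Subfield k) ∧ f t ∈ Z} with hZ'
  have hphix : ∀ u ∈ insert x Z, phi D k r m u = u := fun u hu => phi_range hp r h01 (hS0 hu)
  obtain ⟨S, hSB, hSx⟩ := exists_fix_of_langZ R hG hq (B := {β | ∃ t ∈ Z', β = MulAut.conj t}) (l := q) (j := e)
    (m := n) (x := x') (z := z') (f := fG D (frE r N m))
    (by
      rintro _ ⟨t, ht, rfl⟩
      exact BpExc.FamFrame.diag_conj R ht.1)
    (by
      apply hinj
      rw [map_pow, hx', hxq, map_one])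
    (by
      apply hinj
      rw [hf, emb_fG hp, ← hf, hx']
      exact hphix x (Set.mem_insert x Z))
    (by
      rintro _ ⟨t, ht, rfl⟩
      have h1 : fG D (frE r N m) t = t := by
        apply hinj
        rw [hf, emb_fG hp, ← hf]
        exact hphix _ (Set.mem_insert_of_mem x ht.2)
      show MulAut.conj t * fG D (frE r N m) = fG D (frE r N m) * MulAut.conj t
      have h2 : fG D (frE r N m) * MulAut.conj t = MulAut.conj (fG D (frE r N m) t) * fG D (frE r N m) := by
        ext1 y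
        simp only [MulAut.mul_apply, MulAut.conj_apply, map_mul, map_inv]
      rw [h2, h1])
    (by
      rintro _ ⟨t, ht, rfl⟩
      apply hinj
      rw [MulAut.conj_apply, map_mul, map_mul, map_inv, hz', hzZ _ ht.2]
      group)
    (by
      apply hinj
      rw [map_mul, map_inv, hz', hx', hf, emb_fG_pow hp, ← hf, hz', phi_pow]
      exact hzx)
    (diag_fG hp r M.toCoxeterSystem (frE r N m) (q ^ e))
    (fun a ha => by
      by_cases hall : ∀ t ∈ Z', ch hp a t = 1
      · -- the root group is centralised by `Z'`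
        have h1 : XX D l ↥(EE r N : Subfield k) a ⊓ FB (insert ((fG D (frE r N m)) ^ q ^ e)
            {β | ∃ t ∈ Z', β = MulAut.conj t}) =
            XF (XX D l ↥(EE r N : Subfield k)) ((fG D (frE r N m)) ^ q ^ e) a := by
          apply le_antisymm
          · rintro u ⟨hu, hu'⟩
            exact ⟨hu, hu' _ (Set.mem_insert _ _)⟩
          · rintro u ⟨hu, hu'⟩
            refine ⟨hu, fun β hβ => ?_⟩
            rcases Set.mem_insert_iff.1 hβ with rfl | ⟨t, ht, rfl⟩
            · exact hu'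
            · obtain ⟨c, rfl⟩ := ((C.coord a ha).mem u).1 hu
              rw [MulAut.conj_apply, (C.coord a ha).act t ht.1, hall t ht, one_mul]
        rw [h1, card_XF hp r M.toCoxeterSystem (frE r N m) (q ^ e) ha]
        have hfr : ∀ (j : ℕ) (a : ↥(EE r N : Subfield k)), (((frE r N m) ^ j) a : k) = (a : k) ^ r ^ (m * j) := by
          intro j
          induction j with
          | zero =>
            intro a
            rw [mul_zero, pow_zero r, pow_one, pow_zero]
            rfl
          | succ j ih =>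
            intro a
            rw [pow_succ]
            show (((frE r N m) ^ j) (frE r N m a) : k) = _
            rw [ih, coe_frE, ← pow_mul, ← pow_add, mul_add, mul_one, add_comm]
        have h2 : Nat.card {s : ↥(EE r N : Subfield k) // ((frE r N m) ^ q ^ e) s = s} = r ^ m1 := by
          rw [← card_EE r (k := k) hm1]
          refine Nat.card_congr ⟨fun s => ⟨(s.1 : k), ?_⟩, fun s => ⟨⟨s.1, EE_le r hm1N s.2⟩, ?_⟩, fun _ => rfl,
            fun _ => rfl⟩
          · rw [mem_EE]
            have h3 := congrArg Subtype.val s.2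
            rw [hfr] at h3
            exact h3
          · apply Subtype.ext
            rw [hfr]
            exact (mem_EE r).1 s.2
        rw [h2, hm1def, pow_mul]
        have := hrm.pow (q ^ e)
        rwa [one_pow] at this
      · push Not at hall
        obtain ⟨t, ht, hta⟩ := hall
        have h1 : XX D l ↥(EE r N : Subfield k) a ⊓ FB (insert ((fG D (frE r N m)) ^ q ^ e)
            {β | ∃ t ∈ Z', β = MulAut.conj t}) = ⊥ := by
          rw [eq_bot_iff]
          rintro u ⟨hu, hu'⟩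
          rw [Subgroup.mem_bot]
          obtain ⟨c, rfl⟩ := ((C.coord a ha).mem u).1 hu
          have h2 := hu' _ (Set.mem_insert_of_mem _ ⟨t, ht, rfl⟩)
          rw [MulAut.conj_apply, (C.coord a ha).act t ht.1] at h2
          have h3 := (C.coord a ha).inj h2
          have h4 : c = 0 := by
            by_contra hc
            exact hta (mul_right_cancel₀ hc (h3.trans (one_mul c).symm))
          rw [h4]
          exact (C.coord a ha).zero
        rw [h1, Subgroup.card_bot]) hW
  -- the group fixes the chamber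
  have hcl : Q.comap f ≤ Subgroup.closure (insert x' Z') := by
    intro u hu
    have h1 : f u ∈ Subgroup.closure (insert x Z) := hQle hu
    have h2 : Subgroup.closure (insert x Z) = (Subgroup.closure (insert x' Z')).map f := by
      rw [MonoidHom.map_closure]
      congr 1
      ext v
      constructor
      · intro hv
        rcases Set.mem_insert_iff.1 hv with rfl | hv
        · exact ⟨x', Set.mem_insert _ _, hx'⟩
        · obtain ⟨t', ht', rfl⟩ := hZN v hv
          exact ⟨t', Set.mem_insert_of_mem _ ⟨ht', hv⟩, rfl⟩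
      · rintro ⟨w, hw, rfl⟩
        rcases Set.mem_insert_iff.1 hw with rfl | hw
        · rw [hx']; exact Set.mem_insert _ _
        · exact Set.mem_insert_of_mem _ hw.2
    rw [h2] at h1
    obtain ⟨v, hv, e⟩ := h1
    rwa [← hinj e]
  have hstab : Subgroup.closure (insert x' Z') ≤
      (MulAction.stabilizer (MulAut ↥(D.group ↥(EE r N : Subfield k))) S).comap MulAut.conj := by
    rw [Subgroup.closure_le]
    intro u hu
    rcases Set.mem_insert_iff.1 hu with rfl | hu
    · exact hSx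
    · exact hSB _ ⟨u, hu, rfl⟩
  have hQ' : IsPGroup q ↥(Q.comap f) := hQ.comap_of_injective f hinj
  obtain ⟨g, hg⟩ := exists_conj_le_T R hG hq hqr hQ' (S := S) (fun u hu => hstab (hcl hu))
  refine ⟨f g, fun u hu => ?_⟩
  have h1 : Subgroup.closure (insert x Z) ≤ f.range := by
    rw [Subgroup.closure_le]
    exact fun v hv => hSN (Set.mem_insert_of_mem z hv)
  obtain ⟨v, rfl⟩ := h1 (hQle hu)
  rw [← map_mul, ← map_inv, ← map_mul]
  exact emb_T hp _ ⟨_, hg v hu, rfl⟩

include hk in
/-- **Abelian `q`-subgroups are toral.** -/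
theorem exists_toral_abelian {q : ℕ} (hq : q.Prime) (hqr : q ≠ r) (hW : ¬ q ^ 2 ∣ Nat.card M.Group)
    (hT : Tors M.toCoxeterSystem hp.isCartan q) {S : Subgroup ↥(D.group k)} [Finite ↥S] (hS : IsPGroup q ↥S)
    (hab : ∀ a ∈ S, ∀ b ∈ S, a * b = b * a) : ∃ g : ↥(D.group k), ∀ x ∈ S, g * x * g⁻¹ ∈ TT D k := by
  classical
  have hWf := finite_W hp (M.toCoxeterSystem)
  have hfq : Fact q.Prime := ⟨hq⟩
  have H := tow hp M.toCoxeterSystem hk r
  have C : Coords M.toCoxeterSystem hp.isCartan (TL (Tj hp (k := k))) (nc hp k) (XL (Xj hp)) (xc hp) (ch hp) := by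
    rw [TL_eq hp hk, XL_eq hp hk]
    exact coordsL hp M.toCoxeterSystem hk r
  have hA : ChAdd M.toCoxeterSystem hp.isCartan (TL (Tj hp (k := k))) (ch (K := k) hp) := by
    rw [TL_eq hp hk]
    exact chAddL hp M.toCoxeterSystem hk r
  have hGt := GG_eq_top hp M.toCoxeterSystem hk
  have key : ∀ (d : ℕ) (A : Subgroup ↥(D.group k)), A ≤ S → Nat.card ↥S - Nat.card ↥A = d →
      (∃ g : ↥(D.group k), ∀ x ∈ A, g * x * g⁻¹ ∈ TT D k) → ∃ g : ↥(D.group k), ∀ x ∈ S, g * x * g⁻¹ ∈ TT D k := by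
    intro d
    induction d using Nat.strong_induction_on with
    | _ d ih =>
      rintro A hAS hd ⟨g, hg⟩
      by_cases hSA : S ≤ A
      · exact ⟨g, fun x hx => hg x (hSA hx)⟩
      obtain ⟨x, hxS, hxA⟩ := SetLike.not_le_iff_exists.1 hSA
      have hfinA : Finite ↥A := Finite.of_injective (Subgroup.inclusion hAS) (Subgroup.inclusion_injective _)
      -- the conjugates
      set Z : Set ↥(D.group k) := (fun a => g * a * g⁻¹) '' (A : Set ↥(D.group k)) with hZdef
      have hZfin : Z.Finite := (Set.toFinite (A : Set ↥(D.group k))).image _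
      have hZT : Z ⊆ TL (Tj hp (k := k)) := by
        rintro _ ⟨a, ha, rfl⟩
        rw [TL_eq hp hk]
        exact hg a ha
      have hZq : ∀ t ∈ Z, ∃ m : ℕ, t ^ q ^ m = 1 := by
        rintro _ ⟨a, ha, rfl⟩
        obtain ⟨m, hm⟩ := hS ⟨a, hAS ha⟩
        refine ⟨m, ?_⟩
        have h1 : a ^ q ^ m = 1 := congrArg Subtype.val hm
        show (g * a * g⁻¹) ^ q ^ m = 1
        rw [conj_pow, h1, mul_one, mul_inv_cancel]
      set x' := g * x * g⁻¹ with hx'
      have hx'Z : ∀ t ∈ Z, x' * t = t * x' := by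
        rintro _ ⟨a, ha, rfl⟩
        show g * x * g⁻¹ * (g * a * g⁻¹) = g * a * g⁻¹ * (g * x * g⁻¹)
        have h1 := hab x hxS a (hAS ha)
        calc g * x * g⁻¹ * (g * a * g⁻¹) = g * (x * a) * g⁻¹ := by group
          _ = g * (a * x) * g⁻¹ := by rw [h1]
          _ = _ := by group
      obtain ⟨m₀, hm₀, t₀, ht₀, e⟩ := exists_form_MMT H C hGt hA hZfin hZT hq hZq hW hT hx'Z
      rw [XL_eq hp hk] at hm₀
      rw [TL_eq hp hk] at ht₀
      obtain ⟨n, hn⟩ := hS ⟨x, hxS⟩
      have hxn : x ^ q ^ n = 1 := congrArg Subtype.val hn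
      set A' := A ⊔ Subgroup.zpowers x with hA'
      have hA'S : A' ≤ S := sup_le hAS (Subgroup.zpowers_le.2 hxS)
      have hxA' : x ∈ A' := Subgroup.mem_sup_right (Subgroup.mem_zpowers x)
      have hQle : A'.map (MulAut.conj g).toMonoidHom ≤ Subgroup.closure (insert x' Z) := by
        rw [Subgroup.map_le_iff_le_comap]
        refine sup_le ?_ (Subgroup.zpowers_le.2 ?_)
        · intro a ha
          exact Subgroup.subset_closure (Set.mem_insert_of_mem _ ⟨a, ha, rfl⟩)
        · exact Subgroup.subset_closure (Set.mem_insert _ _)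
      have hQ : IsPGroup q ↥(A'.map (MulAut.conj g).toMonoidHom) := (hS.to_le hA'S).map _
      rw [TL_eq hp hk] at hZT
      obtain ⟨g', hg'⟩ := exists_toral_step hp r hk hq hqr (e := 1) (n := n) hW hZfin hZT e hm₀ ht₀ (by
        rw [hx', conj_pow, hxn, mul_one, mul_inv_cancel]) hQ hQle
      have hlt : Nat.card ↥A < Nat.card ↥A' := by
        have hfinA' : Finite ↥A' := Finite.of_injective (Subgroup.inclusion hA'S) (Subgroup.inclusion_injective _)
        have hle : A ≤ A' := le_sup_left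
        rcases (Subgroup.card_le_of_le hle).lt_or_eq with h1 | h1
        · exact h1
        · exfalso
          apply hxA
          rw [Subgroup.eq_of_le_of_card_ge hle h1.symm.le]
          exact hxA'
      have hle' : Nat.card ↥A' ≤ Nat.card ↥S := Subgroup.card_le_of_le hA'S
      refine ih (Nat.card ↥S - Nat.card ↥A') (by omega) A' hA'S rfl ⟨g' * g, fun y hy => ?_⟩
      have h1 := hg' (g * y * g⁻¹) ⟨y, hy, rfl⟩
      have e2 : g' * g * y * (g' * g)⁻¹ = g' * (g * y * g⁻¹) * g'⁻¹ := by group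
      rw [e2]
      exact h1
  refine key _ ⊥ bot_le rfl ⟨1, fun x hx => ?_⟩
  rw [Subgroup.mem_bot.1 hx, mul_one, mul_inv_cancel]
  exact one_mem _

end Cfsg.Agent.H795.TorSub
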