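import Cfsg.Agent.H506.NRowDef
import Cfsg.Agent.ChevalleyStructure.SL2Hom
import Cfsg.Agent.ChevalleyStructure.SL2All
import Cfsg.Agent.ChevalleyStructure.D4H1
import Cfsg.Agent.ChevalleyStructure.E6Fixed
import Cfsg.Agent.S1025
import Cfsg.Prelude.Def_LieTypeChar
import Cfsg.Agent.FastGrp
import Cfsg.Agent.Prune
set_option linter.all false
prune_inst 0x7f00000000000000000000000000000000000000000000000000000000000000000000000000000000000000000000000000000000000000000000000000000000000000000000000000000000000000003fffffffffffffffffffffffffffbeffbdffffffff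
open scoped Cfsg.Agent.FastGrp

-- part: H795/NCrit
section
/-!
# S4307, row R3: the criterion

* `false_of_act` : `x₁`, `x₂` commute, have order `ρ`, generate a noncyclic group, and `h` acts on it as the power
  `g ^ 2`, `g` a generator of `(ZMod ρ)ˣ`, `q` an odd prime divisor of `ρ - 1` : `NCtx' q T` is false.
* `false_of_sl` : the same from two commuting homomorphisms `SL₂(ρ) → T`.
-/

set_option autoImplicit false

namespace Cfsg.Agent.H795.NCrit

open Subgroup Cfsg.Agent.H506.NRow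

universe u

variable {T : Type u} [Group T] [Finite T] {ρ q : ℕ} [hρ : Fact ρ.Prime]

/-- an element `y` of order `ρ` with `h y h⁻¹ = y ^ (g²)` is not nice -/
theorem not_nice (hq : q.Prime) (hq2 : q ≠ 2) (hqρ : q ∣ ρ - 1) {g : (ZMod ρ)ˣ} (hg : ∀ x : (ZMod ρ)ˣ, x ∈ zpowers g)
    {y h : T} (hy : orderOf y = ρ) (hh : h * y * h⁻¹ = y ^ ((g : ZMod ρ) ^ 2).val) : ¬ Nice q y := by
  rintro ⟨-, Q, hQ, -⟩
  have : Fact q.Prime := ⟨hq⟩
  have hgo : orderOf g = ρ - 1 := by
    rw [orderOf_eq_card_of_forall_mem_zpowers hg, Nat.card_eq_fintype_card, ZMod.card_units_eq_totient,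
      Nat.totient_prime hρ.out]
  set! K := normalizer ((zpowers y : Subgroup T) : Set T) with hK
  set m := ((g : ZMod ρ) ^ 2).val with hm
  have hconj : ∀ k : ℤ, h * y ^ k * h⁻¹ = (y ^ k) ^ m := by
    intro k
    rw [← MulAut.conj_apply, map_zpow, MulAut.conj_apply, hh, ← zpow_natCast, ← zpow_natCast, ← zpow_mul, ← zpow_mul,
      mul_comm]
  have hhK : h ∈ K := by
    apply Subgroup.mem_normalizer_fintype
    intro x hx
    obtain ⟨k, rfl⟩ := mem_zpowers_iff.1 hx
    rw [hconj]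
    exact pow_mem (zpow_mem (mem_zpowers y) k) m
  -- powers of `h`
  have hpow : ∀ j : ℕ, h ^ j * y * (h ^ j)⁻¹ = y ^ (m ^ j) := by
    intro j
    induction j with
    | zero => simp
    | succ j ih =>
      have h1 : h ^ (j + 1) * y * (h ^ (j + 1))⁻¹ = h * (h ^ j * y * (h ^ j)⁻¹) * h⁻¹ := by
        rw [pow_succ']
        group
      rw [h1, ih, ← zpow_natCast, hconj, zpow_natCast, ← pow_mul, pow_succ]
  let f := (zpowers y).normalizerMonoidHom
  have hker : f.ker = (centralizer ((zpowers y : Subgroup T) : Set T)).subgroupOf K := (zpowers y).normalizerMonoidHom_ker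
  have hcard : Nat.card K = Nat.card f.ker * Nat.card f.range := by
    rw [← Subgroup.index_ker f]
    exact (Subgroup.card_mul_index f.ker).symm
  -- `q` divides the order of the image
  have hqr : q ∣ Nat.card f.range := by
    have h1 : orderOf (f ⟨h, hhK⟩) ∣ Nat.card f.range := by
      have h2 : orderOf (f.rangeRestrict ⟨h, hhK⟩) ∣ Nat.card f.range := _root_.orderOf_dvd_natCard _
      have h3 : orderOf (f ⟨h, hhK⟩) = orderOf (f.rangeRestrict ⟨h, hhK⟩) := by
        rw [← Subgroup.orderOf_coe]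
        rfl
      rwa [h3]
    refine dvd_trans ?_ h1
    have h2 : f (⟨h, hhK⟩ ^ orderOf (f ⟨h, hhK⟩)) = 1 := by rw [map_pow, pow_orderOf_eq_one]
    set j := orderOf (f ⟨h, hhK⟩) with hj
    have h3 : (⟨h, hhK⟩ ^ j : K) ∈ f.ker := h2
    rw [hker, mem_subgroupOf, mem_centralizer_iff] at h3
    have h4 : y * h ^ j = h ^ j * y := h3 y (mem_zpowers y)
    have h5 : y ^ (m ^ j) = y := by
      rw [← hpow j, ← h4, mul_inv_cancel_right]
    have h6 : ((m ^ j : ℕ) : ZMod ρ) = 1 := by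
      have h7 : y ^ (m ^ j) = y ^ 1 := by rw [h5, pow_one]
      rw [pow_eq_pow_iff_modEq, hy] at h7
      have h8 := (ZMod.natCast_eq_natCast_iff _ _ _).2 h7
      rw [h8, Nat.cast_one]
    have h7 : g ^ (2 * j) = 1 := by
      apply Units.ext
      rw [Units.val_pow_eq_pow_val, Units.val_one, pow_mul]
      rw [Nat.cast_pow, hm, ZMod.natCast_zmod_val] at h6
      exact h6
    have h8 : ρ - 1 ∣ 2 * j := by
      rw [← hgo]
      exact orderOf_dvd_of_pow_eq_one h7
    rcases (hq.dvd_mul).1 (hqρ.trans h8) with h9 | h9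
    · exact absurd ((Nat.prime_dvd_prime_iff_eq hq Nat.prime_two).1 h9) hq2
    · exact h9
  -- `|Q|` divides the order of the kernel
  have hQk : Nat.card (Q : Subgroup T) ∣ Nat.card f.ker := by
    have hQK : (Q : Subgroup T) ≤ K := by
      intro z hz
      apply Subgroup.mem_normalizer_fintype
      intro x hx
      obtain ⟨k, rfl⟩ := mem_zpowers_iff.1 hx
      have h1 : z * y ^ k = y ^ k * z := (show Commute z y from hQ z hz).zpow_right k
      rw [h1, mul_inv_cancel_right]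
      exact hx
    have h1 : Nat.card ((Q : Subgroup T).subgroupOf K) = Nat.card (Q : Subgroup T) :=
      Nat.card_congr (Subgroup.subgroupOfEquivOfLe hQK).toEquiv
    rw [← h1]
    apply Subgroup.card_dvd_of_le
    rw [hker]
    intro z hz
    rw [mem_subgroupOf] at hz ⊢
    rw [mem_centralizer_iff]
    intro x hx
    obtain ⟨k, rfl⟩ := mem_zpowers_iff.1 hx
    exact ((show Commute (z : T) y from hQ z hz).zpow_right k).symm
  have h1 : q * Nat.card (Q : Subgroup T) ∣ Nat.card T := by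
    refine dvd_trans ?_ (Subgroup.card_subgroup_dvd_card K)
    rw [hcard, mul_comm q]
    exact mul_dvd_mul hQk hqr
  rw [← Subgroup.card_mul_index (Q : Subgroup T), mul_comm q] at h1
  exact Q.not_dvd_index (Nat.dvd_of_mul_dvd_mul_left Nat.card_pos h1)

/-- **The criterion.** -/
theorem false_of_act (hq : q.Prime) (hq2 : q ≠ 2) (hqρ : q ∣ ρ - 1) {g : (ZMod ρ)ˣ}
    (hg : ∀ x : (ZMod ρ)ˣ, x ∈ zpowers g) {x₁ x₂ h : T} (h1 : x₁ ^ ρ = 1) (h2 : x₂ ^ ρ = 1) (hc : x₁ * x₂ = x₂ * x₁)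
    (hne1 : x₁ ≠ 1) (hne : x₂ ∉ zpowers x₁) (hh1 : h * x₁ * h⁻¹ = x₁ ^ ((g : ZMod ρ) ^ 2).val)
    (hh2 : h * x₂ * h⁻¹ = x₂ ^ ((g : ZMod ρ) ^ 2).val) : ¬ NCtx' q T := by
  intro hN
  set m := ((g : ZMod ρ) ^ 2).val with hm
  have hρ3 : ρ ≠ 2 := by
    rintro rfl
    have h3 : q ∣ 1 := by simpa using hqρ
    exact hq.one_lt.ne' (Nat.dvd_one.1 h3)
  have hz : ∀ x : T, x ^ ρ = 1 → IsPGroup ρ (zpowers x) := fun x hx y => ⟨1, by
    obtain ⟨k, hk⟩ := mem_zpowers_iff.1 y.2
    apply Subtype.ext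
    rw [pow_one]
    change (y : T) ^ ρ = 1
    rw [← hk, ← zpow_natCast, ← zpow_mul, mul_comm, zpow_mul, zpow_natCast, hx, one_zpow]⟩
  set! B := zpowers x₁ ⊔ zpowers x₂ with hB
  have hP : IsPGroup ρ B := by
    refine IsPGroup.to_sup_of_normal_right' (hz x₁ h1) (hz x₂ h2) ?_
    rw [zpowers_le]
    apply Subgroup.mem_normalizer_fintype
    intro x hx
    obtain ⟨k, rfl⟩ := mem_zpowers_iff.1 hx
    have h1 : Commute x₁ (x₂ ^ k) := (show Commute x₁ x₂ from hc).zpow_right k
    rw [h1.eq, mul_inv_cancel_right]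
    exact hx
  have hx1 : x₁ ∈ B := mem_sup_left (mem_zpowers x₁)
  have hx2 : x₂ ∈ B := mem_sup_right (mem_zpowers x₂)
  have hform : ∀ y ∈ B, ∃ i j : ℤ, y = x₁ ^ i * x₂ ^ j := by
    intro y hy
    have h3 : B ≤ (zpowers x₁ ⊔ zpowers x₂) := le_refl _
    refine Subgroup.closure_induction (k := ({x₁, x₂} : Set T)) (p := fun y _ => ∃ i j : ℤ, y = x₁ ^ i * x₂ ^ j)
      ?_ ⟨0, 0, by simp⟩ ?_ ?_ (x := y) ?_
    · intro z hz
      rcases hz with rfl | rfl
      · exact ⟨1, 0, by simp⟩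
      · exact ⟨0, 1, by simp⟩
    · rintro a b - - ⟨i, j, rfl⟩ ⟨k, l, rfl⟩
      refine ⟨i + k, j + l, ?_⟩
      have h4 : x₂ ^ j * x₁ ^ k = x₁ ^ k * x₂ ^ j := ((show Commute x₁ x₂ from hc).zpow_zpow k j).symm
      rw [zpow_add, zpow_add]
      calc x₁ ^ i * x₂ ^ j * (x₁ ^ k * x₂ ^ l) = x₁ ^ i * (x₂ ^ j * x₁ ^ k) * x₂ ^ l := by group
        _ = x₁ ^ i * (x₁ ^ k * x₂ ^ j) * x₂ ^ l := by rw [h4]
        _ = _ := by group
    · rintro a - ⟨i, j, rfl⟩
      refine ⟨-i, -j, ?_⟩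
      have h4 : x₂ ^ (-j) * x₁ ^ (-i) = x₁ ^ (-i) * x₂ ^ (-j) :=
        ((show Commute x₁ x₂ from hc).zpow_zpow (-i) (-j)).symm
      rw [← h4, mul_inv_rev, zpow_neg, zpow_neg]
    · have h4 : B ≤ _root_.Subgroup.closure ({x₁, x₂} : Set T) := by
        rw [hB]
        refine sup_le ?_ ?_
        · rw [zpowers_le]
          exact _root_.Subgroup.subset_closure (by simp)
        · rw [zpowers_le]
          exact _root_.Subgroup.subset_closure (by simp)
      exact h4 hy
  have hyρ : ∀ y ∈ B, y ^ ρ = 1 := by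
    intro y hy
    obtain ⟨i, j, rfl⟩ := hform y hy
    rw [((show Commute x₁ x₂ from hc).zpow_zpow i j).mul_pow, ← zpow_natCast, ← zpow_natCast, ← zpow_mul, ← zpow_mul,
      mul_comm i, mul_comm j, zpow_mul, zpow_mul, zpow_natCast, zpow_natCast, h1, h2, one_zpow, one_zpow, one_mul]
  have hact : ∀ y ∈ B, h * y * h⁻¹ = y ^ m := by
    intro y hy
    obtain ⟨i, j, rfl⟩ := hform y hy
    have h3 : h * (x₁ ^ i * x₂ ^ j) * h⁻¹ = (x₁ ^ m) ^ i * (x₂ ^ m) ^ j := by
      rw [← hh1, ← hh2, ← MulAut.conj_apply, ← MulAut.conj_apply, ← MulAut.conj_apply, map_mul, map_zpow, map_zpow]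
    rw [h3, ((show Commute x₁ x₂ from hc).zpow_zpow i j).mul_pow, ← zpow_natCast, ← zpow_natCast, ← zpow_natCast,
      ← zpow_natCast, ← zpow_mul, ← zpow_mul, ← zpow_mul, ← zpow_mul, mul_comm i, mul_comm j]
  have hnc : ¬ IsCyclic B := by
    intro hcyc
    obtain ⟨b, hb⟩ := hcyc.exists_generator
    -- `B` has order at most `ρ`
    have h3 : Nat.card B ≤ ρ := by
      have h4 : orderOf b = Nat.card B := orderOf_eq_card_of_forall_mem_zpowers hb
      rw [← h4]
      exact Nat.le_of_dvd hρ.out.pos (orderOf_dvd_of_pow_eq_one (Subtype.ext (hyρ b b.2)))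
    have h4 : zpowers x₁ = B := by
      refine Subgroup.eq_of_le_of_card_ge le_sup_left ?_
      rw [Nat.card_zpowers, orderOf_eq_prime h1 hne1]
      exact h3
    exact hne (h4 ▸ hx2)
  obtain ⟨y, hy, hyo, hn⟩ := hN.noncyc ρ hρ.out hρ3 B hP hnc
  exact not_nice hq hq2 hqρ hg hyo (hact y hy) hn

end Cfsg.Agent.H795.NCrit
end

-- part: H795/NCritSL
section
/-!
# S4307, row R3: the criterion for homomorphisms from `SL₂`

* `false_of_sl_one` : `φ : SL₂(F) → T` injective on the root group, `|F| > ρ = char F`;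
* `false_of_sl_two` : commuting `φ, ψ : SL₂(F) → T` not trivial on the root group.
-/

set_option autoImplicit false

namespace Cfsg.Agent.H795.NCrit

open Subgroup Cfsg.Agent.H506.NRow Cfsg.Agent.ChevalleyStructure.SL2Hom

universe u v

section

variable {F : Type v} [Field F]

/-- the diagonal elements -/
def dS (u : Fˣ) : Matrix.SpecialLinearGroup (Fin 2) F :=
  ⟨!![(u : F), 0; 0, ((u⁻¹ : Fˣ) : F)], by simp [Matrix.det_fin_two]⟩

theorem dS_up (u : Fˣ) (t : F) : dS u * up t * (dS u)⁻¹ = up ((u : F) ^ 2 * t) := by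
  rw [mul_inv_eq_iff_eq_mul]
  apply Subtype.ext
  show !![(u : F), 0; 0, ((u⁻¹ : Fˣ) : F)] * !![1, t; 0, 1] =
    !![1, (u : F) ^ 2 * t; 0, 1] * !![(u : F), 0; 0, ((u⁻¹ : Fˣ) : F)]
  rw [Matrix.mul_fin_two, Matrix.mul_fin_two]
  have h2 : (u : F) ≠ 0 := u.ne_zero
  ext i j
  (revert i j; simp only [_root_.Fin.forall_fin_succ, _root_.mul_one, _root_.MulZeroClass.mul_zero, _root_.add_zero, _root_.Units.val_inv_eq_inv_val, _root_.MulZeroClass.zero_mul, _root_.zero_add, _root_.Matrix.of_apply, _root_.Matrix.cons_val', _root_.Matrix.cons_val_fin_one, _root_.one_mul, Fin.isValue, _root_.Matrix.cons_val_zero, _root_.Matrix.cons_val_succ, _root_.forall_const, _root_.implies_true, _root_.and_true, _root_.true_and]) <;> (repeat' with_reducible apply And.intro)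
  field_simp

theorem up_add (s t : F) : up s * up t = up (s + t) := by
  apply Subtype.ext
  show !![(1 : F), s; 0, 1] * !![1, t; 0, 1] = !![1, s + t; 0, 1]
  rw [Matrix.mul_fin_two]
  ext i j
  (revert i j; simp [add_comm, _root_.Fin.forall_fin_succ])

theorem up_zero : up (0 : F) = 1 := by
  apply Subtype.ext
  show !![(1 : F), 0; 0, 1] = 1
  rw [Matrix.one_fin_two]

theorem up_pow (t : F) (n : ℕ) : up t ^ n = up ((n : F) * t) := by
  induction n with
  | zero => rw [pow_zero, Nat.cast_zero, zero_mul, up_zero]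
  | succ n ih => rw [pow_succ, ih, up_add, Nat.cast_succ, add_mul, one_mul]

theorem up_comm (s t : F) : up s * up t = up t * up s := by rw [up_add, up_add, add_comm]

end

variable {T : Type u} [Group T] {ρ q : ℕ} [hρ : Fact ρ.Prime] {F : Type v} [Field F] [CharP F ρ]

/-- the unit of `F` attached to a unit of `ZMod ρ` -/
noncomputable def uF (F : Type v) [Field F] [CharP F ρ] : (ZMod ρ)ˣ →* Fˣ :=
  Units.map (ZMod.castHom (dvd_refl ρ) F).toMonoidHom

theorem uF_sq (g : (ZMod ρ)ˣ) : ((uF F g : Fˣ) : F) ^ 2 = ((((g : ZMod ρ) ^ 2).val : ℕ) : F) := by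
  have h1 : ((uF F g : Fˣ) : F) = ZMod.castHom (dvd_refl ρ) F (g : ZMod ρ) := rfl
  rw [h1, ← map_pow, ZMod.natCast_val, ZMod.castHom_apply]

theorem act (φ : Matrix.SpecialLinearGroup (Fin 2) F →* T) (g : (ZMod ρ)ˣ) (t : F) :
    φ (dS (uF F g)) * φ (up t) * (φ (dS (uF F g)))⁻¹ = φ (up t) ^ ((g : ZMod ρ) ^ 2).val := by
  rw [← map_inv, ← map_mul, ← map_mul, dS_up, ← map_pow, up_pow, uF_sq]

theorem pow_char (φ : Matrix.SpecialLinearGroup (Fin 2) F →* T) (t : F) : φ (up t) ^ ρ = 1 := by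
  rw [← map_pow, up_pow, CharP.cast_eq_zero, zero_mul, up_zero, map_one]

variable [Finite T]

theorem false_of_sl_one [Finite F] (hq : q.Prime) (hq2 : q ≠ 2) (hqρ : q ∣ ρ - 1)
    (φ : Matrix.SpecialLinearGroup (Fin 2) F →* T) (hinj : ∀ t, φ (up t) = 1 → t = 0) (hF : ρ < Nat.card F) :
    ¬ NCtx' q T := by
  obtain ⟨g, hg⟩ := IsCyclic.exists_generator (α := (ZMod ρ)ˣ)
  obtain ⟨t₀, ht₀⟩ : ∃ t₀ : F, ∀ k : ℤ, t₀ ≠ k := by
    by_contra hcon
    push Not at hcon
    have h1 : Function.Surjective (ZMod.castHom (dvd_refl ρ) F) := by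
      intro t
      obtain ⟨k, hk⟩ := hcon t
      exact ⟨(k : ZMod ρ), by rw [hk, map_intCast]⟩
    have h2 := Nat.card_le_card_of_surjective _ h1
    rw [Nat.card_zmod] at h2
    omega
  have hz : ∀ k : ℤ, φ (up 1) ^ k = φ (up (k : F)) := by
    intro k
    have h1 : ∀ n : ℕ, φ (up (1 : F)) ^ n = φ (up (n : F)) := fun n => by
      rw [← map_pow, up_pow, mul_one]
    rcases Int.eq_nat_or_neg k with ⟨n, rfl | rfl⟩
    · rw [zpow_natCast, h1, Int.cast_natCast]
    · rw [zpow_neg, zpow_natCast, h1, inv_eq_iff_mul_eq_one, ← map_mul, up_add, Int.cast_neg, Int.cast_natCast,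
        add_neg_cancel, up_zero, map_one]
  refine false_of_act hq hq2 hqρ hg (x₁ := φ (up 1)) (x₂ := φ (up t₀)) (h := φ (dS (uF F g))) (pow_char φ 1)
    (pow_char φ t₀) ?_ (fun h => one_ne_zero (hinj 1 h)) ?_ (act φ g 1) (act φ g t₀)
  · rw [← map_mul, ← map_mul, up_comm]
  · intro h
    obtain ⟨k, hk⟩ := mem_zpowers_iff.1 h
    rw [hz] at hk
    have h1 : φ (up (t₀ - (k : F))) = 1 := by
      have h2 : up (t₀ - (k : F)) = up t₀ * (up (k : F))⁻¹ := by
        rw [eq_mul_inv_iff_mul_eq, up_add, sub_add_cancel]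
      rw [h2, map_mul, map_inv, hk, mul_inv_cancel]
    exact ht₀ k (sub_eq_zero.1 (hinj _ h1))

theorem false_of_sl_two (hq : q.Prime) (hq2 : q ≠ 2) (hqρ : q ∣ ρ - 1)
    (φ ψ : Matrix.SpecialLinearGroup (Fin 2) F →* T) (hc : ∀ a b, φ a * ψ b = ψ b * φ a)
    (hφ : φ (up 1) ≠ 1) (hψ : ψ (up 1) ≠ 1) : ¬ NCtx' q T := by
  obtain ⟨g, hg⟩ := IsCyclic.exists_generator (α := (ZMod ρ)ˣ)
  set! m := ((g : ZMod ρ) ^ 2).val with hm
  have hconj : ∀ (a b y : T), a * b = b * a → a * y = y * a → (b * a) * y * (b * a)⁻¹ = b * y * b⁻¹ := by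
    intro a b y _ h2
    calc (b * a) * y * (b * a)⁻¹ = b * (a * y) * a⁻¹ * b⁻¹ := by group
      _ = b * (y * a) * a⁻¹ * b⁻¹ := by rw [h2]
      _ = _ := by group
  refine false_of_act hq hq2 hqρ hg (x₁ := φ (up 1)) (x₂ := ψ (up 1)) (h := φ (dS (uF F g)) * ψ (dS (uF F g)))
    (pow_char φ 1) (pow_char ψ 1) (hc _ _) hφ ?_ ?_ ?_
  · intro h
    -- `ψ (up 1)` is a power of `φ (up 1)`, hence commutes with `ψ`
    obtain ⟨k, hk⟩ := mem_zpowers_iff.1 h
    have h1 : ψ (dS (uF F g)) * ψ (up 1) * (ψ (dS (uF F g)))⁻¹ = ψ (up 1) := by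
      have h2 : Commute (ψ (dS (uF F g))) (ψ (up 1)) := by
        rw [← hk]
        exact (show Commute (ψ (dS (uF F g))) (φ (up 1)) from (hc _ _).symm).zpow_right k
      rw [h2.eq, mul_inv_cancel_right]
    rw [act] at h1
    have h2 : orderOf (ψ (up 1)) = ρ := orderOf_eq_prime (pow_char ψ 1) hψ
    have h3 : ψ (up (1 : F)) ^ ((g : ZMod ρ) ^ 2).val = ψ (up 1) ^ 1 := by rw [h1, pow_one]
    rw [pow_eq_pow_iff_modEq, h2] at h3
    have h4 := (ZMod.natCast_eq_natCast_iff _ _ _).2 h3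
    rw [ZMod.natCast_zmod_val, Nat.cast_one] at h4
    have h5 : g ^ 2 = 1 := Units.ext (by rw [Units.val_pow_eq_pow_val, h4, Units.val_one])
    have hgo : orderOf g = ρ - 1 := by
      rw [orderOf_eq_card_of_forall_mem_zpowers hg, Nat.card_eq_fintype_card, ZMod.card_units_eq_totient,
        Nat.totient_prime hρ.out]
    have h6 : ρ - 1 ∣ 2 := by
      rw [← hgo]
      exact orderOf_dvd_of_pow_eq_one h5
    exact hq2 ((Nat.prime_dvd_prime_iff_eq hq Nat.prime_two).1 (hqρ.trans h6))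
  · rw [hconj _ _ _ (hc _ _).symm (hc _ _).symm]
    exact act φ g 1
  · rw [hc, hconj _ _ _ (hc _ _) (hc _ _)]
    exact act ψ g 1

end Cfsg.Agent.H795.NCrit
end

-- part: H795/NCritLie
section
/-!
# S4307, row R3: the exceptional groups

* `exc` : `T` of type `G₂, F₄, E₆, E₇, E₈, ³D₄, ²E₆` in characteristic `ρ`, `q` an odd prime divisor of `ρ - 1` :
  `¬ NCtx' q T`.
-/

set_option autoImplicit false
set_option linter.unusedSectionVars false

namespace Cfsg.Agent.H795.NCrit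

open Subgroup Cfsg Cfsg.Lie Cfsg.Agent.H506.NRow Cfsg.Agent.ChevalleyStructure Cfsg.Agent.ChevalleyStructure.Elts
  Cfsg.Agent.ChevalleyStructure.SL2Hom

universe u v

/-! ### homomorphisms from `SL₂` -/

section

variable {Γ : Type u} [Group Γ] {F : Type v} [Field F]

/-- homomorphisms from `SL₂` are determined by properties on the root groups -/
theorem sl_ind {p : Matrix.SpecialLinearGroup (Fin 2) F → Prop} (h1 : p 1) (hm : ∀ a b, p a → p b → p (a * b))
    (hi : ∀ a, p a → p a⁻¹) (hu : ∀ t, p (up t)) (hl : ∀ t, p (lo t)) (g : Matrix.SpecialLinearGroup (Fin 2) F) : p g := by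
  refine Subgroup.closure_induction (p := fun g _ => p g) ?_ h1 (fun a b _ _ => hm a b) (fun a _ => hi a)
    (mem_closure_SL2 g)
  rintro x (⟨t, rfl⟩ | ⟨t, rfl⟩)
  · exact hu t
  · exact hl t

theorem sl_commute {F' : Type*} [Field F'] (a : Matrix.SpecialLinearGroup (Fin 2) F →* Γ)
    (b : Matrix.SpecialLinearGroup (Fin 2) F' →* Γ)
    (huu : ∀ s t, Commute (a (up s)) (b (up t))) (hul : ∀ s t, Commute (a (up s)) (b (lo t)))
    (hlu : ∀ s t, Commute (a (lo s)) (b (up t))) (hll : ∀ s t, Commute (a (lo s)) (b (lo t))) (g g') :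
    Commute (a g) (b g') := by
  revert g
  refine sl_ind ?_ ?_ ?_ ?_ ?_
  · rw [map_one]
    exact Commute.one_left _
  · intro x y hx hy
    rw [map_mul]
    exact hx.mul_left hy
  · intro x hx
    rw [map_inv]
    exact hx.inv_left
  · intro t
    revert g'
    refine sl_ind ?_ ?_ ?_ ?_ ?_
    · rw [map_one]
      exact Commute.one_right _
    · intro x y hx hy
      rw [map_mul]
      exact hx.mul_right hy
    · intro x hx
      rw [map_inv]
      exact hx.inv_right
    · exact fun s => huu t s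
    · exact fun s => hul t s
  · intro t
    revert g'
    refine sl_ind ?_ ?_ ?_ ?_ ?_
    · rw [map_one]
      exact Commute.one_right _
    · intro x y hx hy
      rw [map_mul]
      exact hx.mul_right hy
    · intro x hx
      rw [map_inv]
      exact hx.inv_right
    · exact fun s => hlu t s
    · exact fun s => hll t s

theorem sl_mem (φ : Matrix.SpecialLinearGroup (Fin 2) F →* Γ) (K : Subgroup Γ) (hu : ∀ t, φ (up t) ∈ K)
    (hl : ∀ t, φ (lo t) ∈ K) (g : Matrix.SpecialLinearGroup (Fin 2) F) : φ g ∈ K := by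
  revert g
  refine sl_ind ?_ ?_ ?_ hu hl
  · rw [map_one]
    exact one_mem K
  · intro x y hx hy
    rw [map_mul]
    exact mul_mem hx hy
  · intro x hx
    rw [map_inv]
    exact inv_mem hx

/-- product of two commuting homomorphisms -/
def prod2 {G : Type*} [Group G] (a b : G →* Γ) (h : ∀ x y, Commute (a x) (b y)) : G →* Γ :=
  MonoidHom.mk' (fun g => a g * b g) fun x y => by
    rw [map_mul, map_mul]
    calc a x * a y * (b x * b y) = a x * (a y * b x) * b y := by group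
      _ = a x * (b x * a y) * b y := by rw [(h y x).eq]
      _ = _ := by group

theorem prod2_apply {G : Type*} [Group G] (a b : G →* Γ) (h : ∀ x y, Commute (a x) (b y)) (g : G) :
    prod2 a b h g = a g * b g := rfl

theorem map_up' (φ : F →+* F) (t : F) : Matrix.SpecialLinearGroup.map φ (up t) = up (φ t) := by
  apply Subtype.ext
  show (!![(1 : F), t; 0, 1]).map φ = !![(1 : F), φ t; 0, 1]
  ext i j
  (revert i j; simp only [_root_.Fin.forall_fin_succ, _root_.Matrix.map_apply, _root_.Matrix.of_apply, _root_.Matrix.cons_val', _root_.Matrix.cons_val_fin_one, Fin.isValue, _root_.Matrix.cons_val_zero, _root_.Matrix.cons_val_succ, _root_.forall_const, _root_.map_one, _root_.and_self, _root_.map_zero, _root_.implies_true])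

theorem map_lo' (φ : F →+* F) (t : F) : Matrix.SpecialLinearGroup.map φ (lo t) = lo (φ t) := by
  apply Subtype.ext
  show (!![(1 : F), 0; t, 1]).map φ = !![(1 : F), 0; φ t, 1]
  ext i j
  (revert i j; simp only [_root_.Fin.forall_fin_succ, _root_.Matrix.map_apply, _root_.Matrix.of_apply, _root_.Matrix.cons_val', _root_.Matrix.cons_val_fin_one, Fin.isValue, _root_.Matrix.cons_val_zero, _root_.Matrix.cons_val_succ, _root_.forall_const, _root_.map_one, _root_.map_zero, _root_.and_self, _root_.implies_true])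

/-- `a (x(t)) b = 1` with `a`, `b` commuting forces `t = 0` -/
theorem eq_zero_of_mul (a : Matrix.SpecialLinearGroup (Fin 2) F →* Γ) (ha : ∀ t, a (up t) = 1 → t = 0) {w : Fˣ}
    (hw : w ^ 2 ≠ 1) {y : Γ} (hy : ∀ g, Commute (a g) y) {t : F} (h : a (up t) * y = 1) : t = 0 := by
  have h1 : a (dS w) * (a (up t) * y) * (a (dS w))⁻¹ = 1 := by rw [h, mul_one, mul_inv_cancel]
  have h2 : a (dS w) * (a (up t) * y) * (a (dS w))⁻¹ = a (up ((w : F) ^ 2 * t)) * y := by
    calc a (dS w) * (a (up t) * y) * (a (dS w))⁻¹ = a (dS w) * a (up t) * (y * (a (dS w))⁻¹) := by group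
      _ = a (dS w) * a (up t) * ((a (dS w))⁻¹ * y) := by rw [((hy (dS w)).inv_left).eq]
      _ = (a (dS w) * a (up t) * (a (dS w))⁻¹) * y := by group
      _ = a (up ((w : F) ^ 2 * t)) * y := by rw [← map_inv, ← map_mul, ← map_mul, dS_up]
  rw [h2, ← h] at h1
  have h3 : a (up ((w : F) ^ 2 * t - t)) = 1 := by
    have h4 : up ((w : F) ^ 2 * t - t) = up ((w : F) ^ 2 * t) * (up t)⁻¹ := by
      rw [eq_mul_inv_iff_mul_eq, up_add, sub_add_cancel]
    rw [h4, map_mul, map_inv, mul_right_cancel h1, mul_inv_cancel]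
  have h4 := ha _ h3
  have h5 : ((w : F) ^ 2 - 1) * t = 0 := by linear_combination h4
  refine (mul_eq_zero.1 h5).resolve_left ?_
  intro h6
  apply hw
  apply Units.ext
  rw [Units.val_pow_eq_pow_val, Units.val_one]
  exact sub_eq_zero.1 h6

end

/-! ### root elements -/

section

variable {D : ChevalleyDatum} (hD : InList D) {F : Type v} [Field F]

theorem xG_commute {r s : ℕ} (hr : r < D.nroots) (hs : s < D.nroots) (hrs : s ≠ r)
    (hneg : s ≠ D.neg r) (hc : D.commTerms r s = []) (t u : F) : Commute (xG hD r t) (xG hD s u) := by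
  apply Units.ext
  have h := Cfsg.Agent.S1025.result (F := F) D hD r s hr hs hrs hneg t u
  have h2 : D.commWord F r s t u = [] := by
    unfold ChevalleyDatum.commWord
    rw [hc]
    rfl
  rw [h2, wordMat_nil, mul_one] at h
  exact h.symm

/-- the homomorphism `SL₂(F) → GL` of a root -/
noncomputable def ph {r : ℕ} (hr : r < D.nroots) (F : Type v) [Field F] :
    Matrix.SpecialLinearGroup (Fin 2) F →* GL D.Idx F :=
  SL2Hom.phi (SL2All.good_of_mem D hD r hr) F

theorem ph_up {r : ℕ} (hr : r < D.nroots) (t : F) : ph hD hr F (up t) = xG hD r t :=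
  Units.ext (SL2Hom.phi_upper _ _ t rfl)

theorem ph_lo {r : ℕ} (hr : r < D.nroots) (t : F) : ph hD hr F (lo t) = xG hD (D.neg r) t :=
  Units.ext (SL2Hom.phi_lower _ _ t rfl)

open Cfsg.Agent.ChevalleyStructure.D4Cols (xU coe_xU)

theorem phU_up (hD : InList chevD4) {r : ℕ} (hr : r < chevD4.nroots) (t : F) : ph hD hr F (up t) = xU r t :=
  Units.ext ((SL2Hom.phi_upper _ _ t rfl).trans (coe_xU r t).symm)

theorem phU_lo (hD : InList chevD4) {r : ℕ} (hr : r < chevD4.nroots) (t : F) :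
    ph hD hr F (lo t) = xU (chevD4.neg r) t :=
  Units.ext ((SL2Hom.phi_lower _ _ t rfl).trans (coe_xU _ t).symm)

/-- strongly orthogonal roots -/
def Orth (D : ChevalleyDatum) (r s : ℕ) : Prop :=
  r < D.nroots ∧ s < D.nroots ∧ D.neg r < D.nroots ∧ D.neg s < D.nroots ∧ s ≠ r ∧ s ≠ D.neg r ∧ D.neg s ≠ r ∧
    D.neg s ≠ D.neg r ∧ s ≠ D.neg (D.neg r) ∧ D.neg s ≠ D.neg (D.neg r) ∧
    D.commTerms r s = [] ∧ D.commTerms (D.neg r) s = [] ∧ D.commTerms r (D.neg s) = [] ∧
    D.commTerms (D.neg r) (D.neg s) = []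

theorem ph_commute {r s : ℕ} (h : Orth D r s) (g g' : Matrix.SpecialLinearGroup (Fin 2) F) :
    Commute (ph hD h.1 F g) (ph hD h.2.1 F g') := by
  obtain ⟨h1, h2, h3, h4, h5, h6, h7, h8, h9, h10, c1, c2, c3, c4⟩ := h
  refine sl_commute _ _ ?_ ?_ ?_ ?_ g g'
  · intro t u
    rw [ph_up, ph_up]
    exact xG_commute hD h1 h2 h5 h6 c1 t u
  · intro t u
    rw [ph_up, ph_lo]
    exact xG_commute hD h1 h4 h7 h8 c3 t u
  · intro t u
    rw [ph_lo, ph_up]
    exact xG_commute hD h3 h2 h6 h9 c2 t u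
  · intro t u
    rw [ph_lo, ph_lo]
    exact xG_commute hD h3 h4 h8 h10 c4 t u

end

open Cfsg.Agent.ChevalleyStructure.D4Cols (xU coe_xU)

variable {ρ q : ℕ} [hρ : Fact ρ.Prime]

/-- **Chevalley types.** -/
theorem chev_row {D : ChevalleyDatum} (hD : InList D) {r s : ℕ} (h : Orth D r s) {F : Type v} [Field F] [CharP F ρ]
    {T : Type u} [Group T] [Finite T] (e : T ≃* ↥(D.group F)) (hq : q.Prime) (hq2 : q ≠ 2) (hqρ : q ∣ ρ - 1) :
    ¬ NCtx' q T := by
  have hm : ∀ {r : ℕ} (hr : r < D.nroots) (g : Matrix.SpecialLinearGroup (Fin 2) F), ph hD hr F g ∈ D.group F :=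
    fun {r} hr => sl_mem _ _ (fun t => by rw [ph_up]; exact xG_mem_group hD r t)
      (fun t => by rw [ph_lo]; exact xG_mem_group hD (D.neg r) t)
  let f : ∀ {r : ℕ} (hr : r < D.nroots), Matrix.SpecialLinearGroup (Fin 2) F →* T := fun {r} hr =>
    (e.symm.toMonoidHom).comp ((ph hD hr F).codRestrict (D.group F) (hm hr))
  refine false_of_sl_two (F := F) hq hq2 hqρ (f h.1) (f h.2.1) ?_ ?_ ?_
  · intro a b
    change e.symm ⟨ph hD h.1 F a, _⟩ * e.symm ⟨ph hD h.2.1 F b, _⟩ = e.symm ⟨ph hD h.2.1 F b, _⟩ * e.symm ⟨ph hD h.1 F a, _⟩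
    rw [← map_mul, ← map_mul]
    (with_reducible congr 1)
    exact Subtype.ext (ph_commute hD h a b).eq
  · intro h1
    have h2 : (⟨ph hD h.1 F (up 1), hm h.1 _⟩ : D.group F) = 1 := e.symm.injective (by rw [map_one]; exact h1)
    have h3 := congrArg Subtype.val h2
    change ph hD h.1 F (up 1) = 1 at h3
    rw [ph_up] at h3
    exact one_ne_zero ((xG_eq_one_iff hD h.1 1).1 h3)
  · intro h1
    have h2 : (⟨ph hD h.2.1 F (up 1), hm h.2.1 _⟩ : D.group F) = 1 := e.symm.injective (by rw [map_one]; exact h1)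
    have h3 := congrArg Subtype.val h2
    change ph hD h.2.1 F (up 1) = 1 at h3
    rw [ph_up] at h3
    exact one_ne_zero ((xG_eq_one_iff hD h.2.1 1).1 h3)

theorem orthG2 : Orth chevG2 11 7 := by unfold Orth; decide +kernel

theorem orthF4 : Orth chevF4 47 12 := by unfold Orth; decide +kernel

theorem orthE6 : Orth chevE6 71 11 := by unfold Orth; decide +kernel

theorem orthE7 : Orth chevE7 125 33 := by unfold Orth; decide +kernel

theorem orthE8 : Orth chevE8 239 13 := by unfold Orth; decide +kernel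

theorem seven_le (hq : q.Prime) (hq2 : q ≠ 2) (hqρ : q ∣ ρ - 1) : 4 ≤ ρ := by
  have h1 := hρ.out.two_le
  have h2 := hq.two_le
  have h3 := Nat.le_of_dvd (by omega) hqρ
  omega

/-- a unit of square `≠ 1` -/
theorem exists_unit {F : Type v} [Field F] [CharP F ρ] (hρ4 : 4 ≤ ρ) : ∃ w : Fˣ, w ^ 2 ≠ 1 := by
  have h2 : ((2 : ℕ) : F) ≠ 0 := by
    intro h
    rw [CharP.cast_eq_zero_iff F ρ] at h
    have := Nat.le_of_dvd (by norm_num) h
    omega
  have h3 : ((3 : ℕ) : F) ≠ 0 := by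
    intro h
    rw [CharP.cast_eq_zero_iff F ρ] at h
    have := Nat.le_of_dvd (by norm_num) h
    omega
  refine ⟨Units.mk0 ((2 : ℕ) : F) h2, fun h => h3 ?_⟩
  have h4 := congrArg Units.val h
  rw [Units.val_pow_eq_pow_val, Units.val_mk0, Units.val_one] at h4
  have h5 : ((3 : ℕ) : F) = ((2 : ℕ) : F) ^ 2 - 1 := by push_cast; norm_num
  rw [h5, h4, sub_self]

theorem lt_card {K : Type v} [Field K] [Fintype K] [CharP K ρ] {p d : ℕ} (hp : IsPrimePow p) (hd : 2 ≤ d)
    (hK : Fintype.card K = p ^ d) : ρ < Nat.card K := by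
  obtain ⟨n, -, hn⟩ := FiniteField.card K ρ
  have hn2 : 2 ≤ (n : ℕ) := by
    obtain ⟨l, k, hl, hk, rfl⟩ := (isPrimePow_nat_iff p).1 hp
    rw [hn, ← pow_mul] at hK
    have h1 : ρ = l := by
      have h2 : ρ ∣ l ^ (k * d) := by
        rw [← hK]
        exact dvd_pow_self ρ n.pos.ne'
      exact (Nat.prime_dvd_prime_iff_eq hρ.out hl).1 (hρ.out.dvd_of_dvd_pow h2)
    subst h1
    have h3 : (n : ℕ) = k * d := Nat.pow_right_injective hρ.out.two_le hK
    rw [h3]
    calc 2 ≤ d := hd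
      _ = 1 * d := (one_mul d).symm
      _ ≤ k * d := Nat.mul_le_mul_right d hk
  rw [Nat.card_eq_fintype_card, hn]
  calc ρ = ρ ^ 1 := (pow_one ρ).symm
    _ < ρ ^ (n : ℕ) := Nat.pow_lt_pow_right hρ.out.one_lt (by omega)

/-- **`²E₆(p)`.** -/
theorem twE6_row {K : Type v} [Field K] [Fintype K] [CharP K ρ] {p : ℕ} (hp : IsPrimePow p)
    (hK : Fintype.card K = p ^ 2) {T : Type u} [Group T] [Finite T] (e : T ≃* ↥(twistedE6 K p)) (hq : q.Prime)
    (hq2 : q ≠ 2) (hqρ : q ∣ ρ - 1) : ¬ NCtx' q T := by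
  obtain ⟨φ, hφ⟩ := D4Fixed.exists_frob hp hK
  have hD : InList chevE6 := by simp
  let a : Matrix.SpecialLinearGroup (Fin 2) K →* GL chevE6.Idx K := ph hD (r := 56) (by decide) K
  let b : Matrix.SpecialLinearGroup (Fin 2) K →* GL chevE6.Idx K :=
    (ph hD (r := 36) (by decide) K).comp (Matrix.SpecialLinearGroup.map φ)
  have n56 : chevE6.neg 56 = 15 := by decide +kernel
  have n36 : chevE6.neg 36 = 35 := by decide +kernel
  have au : ∀ t, a (up t) = xG hD 56 t := fun t => ph_up hD _ t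
  have al : ∀ t, a (lo t) = xG hD 15 t := fun t => by rw [← n56]; exact ph_lo hD _ t
  have bu : ∀ t, b (up t) = xG hD 36 (φ t) := fun t => by
    change ph hD (r := 36) (by decide) K (Matrix.SpecialLinearGroup.map φ (up t)) = _
    rw [map_up', ph_up]
  have bl : ∀ t, b (lo t) = xG hD 35 (φ t) := fun t => by
    change ph hD (r := 36) (by decide) K (Matrix.SpecialLinearGroup.map φ (lo t)) = _
    rw [map_lo', ph_lo, n36]
  have hab : ∀ g g', Commute (a g) (b g') := by
    refine sl_commute a b ?_ ?_ ?_ ?_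
    · intro s t
      rw [au, bu]
      exact E6Fixed.comm (by decide) s (φ t)
    · intro s t
      rw [au, bl]
      exact E6Fixed.comm (by decide) s (φ t)
    · intro s t
      rw [al, bu]
      exact E6Fixed.comm (by decide) s (φ t)
    · intro s t
      rw [al, bl]
      exact E6Fixed.comm (by decide) s (φ t)
  have hm : ∀ g, prod2 a b hab g ∈ twistedE6 K p := by
    refine sl_mem _ _ ?_ ?_
    · intro t
      rw [prod2_apply, au, bu]
      exact E6Fixed.Z_mem hφ (r := 56) (s := 36) (by decide) t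
    · intro t
      rw [prod2_apply, al, bl]
      exact E6Fixed.Z_mem hφ (r := 15) (s := 35) (by decide) t
  obtain ⟨w, hw⟩ := exists_unit (F := K) (seven_le (ρ := ρ) hq hq2 hqρ)
  refine false_of_sl_one (F := K) hq hq2 hqρ
    ((e.symm.toMonoidHom).comp ((prod2 a b hab).codRestrict (twistedE6 K p) hm)) ?_ (lt_card hp (le_refl 2) hK)
  intro t ht
  have h2 : (⟨prod2 a b hab (up t), hm _⟩ : twistedE6 K p) = 1 := e.symm.injective (by rw [map_one]; exact ht)
  have h3 : prod2 a b hab (up t) = 1 := congrArg Subtype.val h2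
  rw [prod2_apply] at h3
  refine eq_zero_of_mul a (fun t h => ?_) hw (fun g => hab g _) h3
  rw [au] at h
  exact (xG_eq_one_iff hD (by decide) t).1 h

/-- **`³D₄(p)`.** -/
theorem twD4_row {K : Type v} [Field K] [Fintype K] [CharP K ρ] {p : ℕ} (hp : IsPrimePow p)
    (hK : Fintype.card K = p ^ 3) {T : Type u} [Group T] [Finite T] (e : T ≃* ↥(twistedD4 K p)) (hq : q.Prime)
    (hq2 : q ≠ 2) (hqρ : q ∣ ρ - 1) : ¬ NCtx' q T := by
  obtain ⟨φ, hφ⟩ := D4Fixed.exists_frob hp hK
  have hD : InList chevD4 := by simp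
  let a : Matrix.SpecialLinearGroup (Fin 2) K →* GL chevD4.Idx K := ph hD (r := 18) (by decide) K
  let b : Matrix.SpecialLinearGroup (Fin 2) K →* GL chevD4.Idx K :=
    (ph hD (r := 13) (by decide) K).comp (Matrix.SpecialLinearGroup.map φ)
  let c : Matrix.SpecialLinearGroup (Fin 2) K →* GL chevD4.Idx K :=
    (ph hD (r := 12) (by decide) K).comp ((Matrix.SpecialLinearGroup.map φ).comp (Matrix.SpecialLinearGroup.map φ))
  have n18 : chevD4.neg 18 = 5 := by decide +kernel
  have n13 : chevD4.neg 13 = 10 := by decide +kernel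
  have n12 : chevD4.neg 12 = 11 := by decide +kernel
  have au : ∀ t, a (up t) = xU 18 t := fun t => phU_up hD _ t
  have al : ∀ t, a (lo t) = xU 5 t := fun t => by rw [← n18]; exact phU_lo hD _ t
  have bu : ∀ t, b (up t) = xU 13 (φ t) := fun t => by
    change ph hD (r := 13) (by decide) K (Matrix.SpecialLinearGroup.map φ (up t)) = _
    rw [map_up', phU_up]
  have bl : ∀ t, b (lo t) = xU 10 (φ t) := fun t => by
    change ph hD (r := 13) (by decide) K (Matrix.SpecialLinearGroup.map φ (lo t)) = _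
    rw [map_lo', phU_lo, n13]
  have cu : ∀ t, c (up t) = xU 12 (φ (φ t)) := fun t => by
    change ph hD (r := 12) (by decide) K (Matrix.SpecialLinearGroup.map φ (Matrix.SpecialLinearGroup.map φ (up t))) = _
    rw [map_up', map_up', phU_up]
  have cl : ∀ t, c (lo t) = xU 11 (φ (φ t)) := fun t => by
    change ph hD (r := 12) (by decide) K (Matrix.SpecialLinearGroup.map φ (Matrix.SpecialLinearGroup.map φ (lo t))) = _
    rw [map_lo', map_lo', phU_lo, n12]
  have hbc : ∀ g g', Commute (b g) (c g') := by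
    refine sl_commute b c ?_ ?_ ?_ ?_
    · intro s t
      rw [bu, cu]
      exact D4Fixed.c_13_12 _ _
    · intro s t
      rw [bu, cl]
      exact D4Fixed.c_13_11 _ _
    · intro s t
      rw [bl, cu]
      exact D4Fixed.c_10_12 _ _
    · intro s t
      rw [bl, cl]
      exact D4Fixed.c_10_11 _ _
  have hab : ∀ g g', Commute (a g) (b g') := by
    refine sl_commute a b ?_ ?_ ?_ ?_
    · intro s t
      rw [au, bu]
      exact D4Fixed.c_18_13 _ _
    · intro s t
      rw [au, bl]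
      exact D4Fixed.c_18_10 _ _
    · intro s t
      rw [al, bu]
      exact D4Fixed.c_5_13 _ _
    · intro s t
      rw [al, bl]
      exact D4Fixed.c_5_10 _ _
  have hac : ∀ g g', Commute (a g) (c g') := by
    refine sl_commute a c ?_ ?_ ?_ ?_
    · intro s t
      rw [au, cu]
      exact D4Fixed.c_18_12 _ _
    · intro s t
      rw [au, cl]
      exact D4Fixed.c_18_11 _ _
    · intro s t
      rw [al, cu]
      exact D4Fixed.c_5_12 _ _
    · intro s t
      rw [al, cl]
      exact D4Fixed.c_5_11 _ _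
  have habc : ∀ g g', Commute (a g) (prod2 b c hbc g') := fun g g' => (hab g g').mul_right (hac g g')
  have hm : ∀ g, prod2 a (prod2 b c hbc) habc g ∈ twistedD4 K p := by
    refine sl_mem _ _ ?_ ?_
    · intro t
      rw [prod2_apply, prod2_apply, au, bu, cu, ← mul_assoc]
      exact D4Fixed.X_mem hφ t
    · intro t
      rw [prod2_apply, prod2_apply, al, bl, cl, ← mul_assoc]
      exact D4Fixed.Y_mem hφ t
  obtain ⟨w, hw⟩ := exists_unit (F := K) (seven_le (ρ := ρ) hq hq2 hqρ)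
  refine false_of_sl_one (F := K) hq hq2 hqρ
    ((e.symm.toMonoidHom).comp ((prod2 a (prod2 b c hbc) habc).codRestrict (twistedD4 K p) hm)) ?_
    (lt_card hp (by norm_num) hK)
  intro t ht
  have h2 : (⟨prod2 a (prod2 b c hbc) habc (up t), hm _⟩ : twistedD4 K p) = 1 :=
    e.symm.injective (by rw [map_one]; exact ht)
  have h3 : prod2 a (prod2 b c hbc) habc (up t) = 1 := congrArg Subtype.val h2
  rw [prod2_apply] at h3
  refine eq_zero_of_mul a (fun t h => ?_) hw (fun g => habc g _) h3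
  have h4 : a (up t) = xG hD 18 t := ph_up hD _ t
  rw [h4] at h
  exact (xG_eq_one_iff hD (by decide) t).1 h

/-- **Row R3, exceptional groups.** -/
theorem exc {T : Type u} [Group T] [Finite T] (h : IsExceptionalChevChar ρ T ∨ IsTwistedE6D4Char ρ T) (hq : q.Prime)
    (hq2 : q ≠ 2) (hqρ : q ∣ ρ - 1) : ¬ NCtx' q T := by
  rcases h with ⟨F, _, _, _, h⟩ | ⟨K, _, _, _, p, hp, h⟩
  · rcases h with ⟨-, ⟨e⟩⟩ | ⟨⟨e⟩⟩ | ⟨⟨e⟩⟩ | ⟨⟨e⟩⟩ | ⟨⟨e⟩⟩
    · exact chev_row (by simp) orthG2 e hq hq2 hqρ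
    · exact chev_row (by simp) orthF4 e hq hq2 hqρ
    · exact chev_row (by simp) orthE6 e hq hq2 hqρ
    · exact chev_row (by simp) orthE7 e hq hq2 hqρ
    · exact chev_row (by simp) orthE8 e hq hq2 hqρ
  · rcases h with ⟨hK, ⟨e⟩⟩ | ⟨hK, ⟨e⟩⟩
    · exact twE6_row hp hK e hq hq2 hqρ
    · exact twD4_row hp hK e hq hq2 hqρ

end Cfsg.Agent.H795.NCrit
end
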